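import Mathlib
import Cfsg.Agent.Mrg.Omega.NOne.Flat.Off
import Cfsg.Agent.Mrg.Omega.NOne.Flat.Conj

-- merged: Cfsg.Agent.Mrg.Omega.Spread.Elat
section

section


/-!
# Groups generated by elations of a partial spread (#17060, #17127)

`M` an elementary abelian 2-group, `L ≤ Aut(M)`, `B ≤ M` such that any two different `L`-conjugates
of `B` are complements of each other.  `Vel L B`: the elements of `L` centralising `B` and `M / B`.
It is a TI-subgroup of `L` in the strong sense `Elat.ti`.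
-/

set_option autoImplicit false

namespace Cfsg.Agent.Omega.Spread

open Subgroup
open scoped Pointwise

variable {M : Type*} [Group M]

theorem sup_ind {K K' : Subgroup M} {p : M → Prop} (h1 : ∀ m ∈ K, p m) (h2 : ∀ m ∈ K', p m) (h3 : p 1)
    (h4 : ∀ m n, p m → p n → p (m * n)) (h5 : ∀ m, p m → p m⁻¹) {m : M} (hm : m ∈ K ⊔ K') : p m := by
  let S : Subgroup M :=
    { carrier := {m | p m}
      one_mem' := h3
      mul_mem' := fun {a b} ha hb => h4 a b ha hb
      inv_mem' := fun {a} ha => h5 a ha }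
  have h6 : K ⊔ K' ≤ S := sup_le h1 h2
  exact h6 hm

theorem mulAut_smul (y : MulAut M) (m : M) : y • m = y m := rfl

theorem map_eq_smul (y : MulAut M) (B : Subgroup M) : B.map (y : M ≃* M).toMonoidHom = y • B := by
  ext m
  rw [Subgroup.mem_smul_pointwise_iff_exists]
  rfl

/-- The elations with axis `B` in `L`. -/
def Vel (L : Subgroup (MulAut M)) (B : Subgroup M) : Subgroup (MulAut M) where
  carrier := {a | a ∈ L ∧ (∀ m ∈ B, a m = m) ∧ ∀ m, a m * m⁻¹ ∈ B}
  one_mem' := ⟨one_mem _, fun m _ => rfl, fun m => by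
    change m * m⁻¹ ∈ B
    rw [mul_inv_cancel]
    exact one_mem _⟩
  mul_mem' := by
    rintro a b ⟨ha, ha1, ha2⟩ ⟨hb, hb1, hb2⟩
    refine ⟨mul_mem ha hb, fun m hm => ?_, fun m => ?_⟩
    · change a (b m) = m
      rw [hb1 m hm, ha1 m hm]
    · have h1 := mul_mem (ha2 (b m)) (hb2 m)
      have e : a (b m) * (b m)⁻¹ * (b m * m⁻¹) = (a * b) m * m⁻¹ := by
        change a (b m) * (b m)⁻¹ * (b m * m⁻¹) = a (b m) * m⁻¹
        group
      rwa [e] at h1
  inv_mem' := by
    rintro a ⟨ha, ha1, ha2⟩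
    refine ⟨inv_mem ha, fun m hm => ?_, fun m => ?_⟩
    · have h1 : a⁻¹ (a m) = m := MulAut.inv_apply_self _ _ _
      rwa [ha1 m hm] at h1
    · have h1 := inv_mem (ha2 (a⁻¹ m))
      rw [MulAut.apply_inv_self] at h1
      have e : (m * (a⁻¹ m)⁻¹)⁻¹ = a⁻¹ m * m⁻¹ := by group
      rwa [e] at h1

theorem mem_Vel {L : Subgroup (MulAut M)} {B : Subgroup M} {a : MulAut M} :
    a ∈ Vel L B ↔ a ∈ L ∧ (∀ m ∈ B, a m = m) ∧ ∀ m, a m * m⁻¹ ∈ B := Iff.rfl

theorem Vel_le {L : Subgroup (MulAut M)} {B : Subgroup M} : Vel L B ≤ L := fun _ h => h.1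

theorem smul_self_of_mem {L : Subgroup (MulAut M)} {B : Subgroup M} {a : MulAut M} (ha : a ∈ Vel L B) :
    a • B = B := by
  ext m
  constructor
  · intro hm
    obtain ⟨b, hb, rfl⟩ := (Subgroup.mem_smul_pointwise_iff_exists _ _ _).1 hm
    rw [mulAut_smul, ha.2.1 b hb]
    exact hb
  · intro hm
    refine (Subgroup.mem_smul_pointwise_iff_exists _ _ _).2 ⟨m, hm, ?_⟩
    rw [mulAut_smul, ha.2.1 m hm]

theorem conj_mem_Vel {L : Subgroup (MulAut M)} {B : Subgroup M} {g a : MulAut M} (hg : g ∈ L)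
    (ha : a ∈ Vel L B) : g * a * g⁻¹ ∈ Vel L (g • B) := by
  refine ⟨mul_mem (mul_mem hg ha.1) (inv_mem hg), fun m hm => ?_, fun m => ?_⟩
  · obtain ⟨b, hb, rfl⟩ := (Subgroup.mem_smul_pointwise_iff_exists _ _ _).1 hm
    change g (a (g⁻¹ (g b))) = g b
    rw [MulAut.inv_apply_self, ha.2.1 b hb]
  · have h1 := Subgroup.smul_mem_pointwise_smul _ g B (ha.2.2 (g⁻¹ m))
    rw [mulAut_smul, map_mul, map_inv, MulAut.apply_inv_self] at h1
    exact h1

theorem conj_Vel {L : Subgroup (MulAut M)} {B : Subgroup M} {g : MulAut M} (hg : g ∈ L) :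
    MulAut.conj g • Vel L B = Vel L (g • B) := by
  ext a
  constructor
  · intro ha
    obtain ⟨b, hb, rfl⟩ := (Subgroup.mem_smul_pointwise_iff_exists _ _ _).1 ha
    exact conj_mem_Vel hg hb
  · intro ha
    refine (Subgroup.mem_smul_pointwise_iff_exists _ _ _).2 ⟨g⁻¹ * a * g, ?_, ?_⟩
    · have h1 := conj_mem_Vel (inv_mem hg) ha
      rw [← mul_smul, inv_mul_cancel, one_smul, inv_inv] at h1
      exact h1
    · change g * (g⁻¹ * a * g) * g⁻¹ = a
      group

/-- The partial spread. -/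
structure Elat (L : Subgroup (MulAut M)) (B : Subgroup M) : Prop where
  comm : ∀ m n : M, m * n = n * m
  sq : ∀ m : M, m * m = 1
  spread : ∀ y ∈ L, y • B = B ∨ y • B ⊓ B = ⊥
  sup : ∀ y ∈ L, y • B ≠ B → y • B ⊔ B = ⊤
  two : ∃ y ∈ L, y • B ≠ B
  ne : Vel L B ≠ ⊥

namespace Elat

variable {L : Subgroup (MulAut M)} {B : Subgroup M} (h : Elat L B)
include h

theorem exists_mul {K K' : Subgroup M} {m : M} (hm : m ∈ K ⊔ K') : ∃ k ∈ K, ∃ k' ∈ K', k * k' = m := by
  refine sup_ind (p := fun m => ∃ k ∈ K, ∃ k' ∈ K', k * k' = m)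
    (fun m hm => ⟨m, hm, 1, one_mem _, mul_one m⟩) (fun m hm => ⟨1, one_mem _, m, hm, one_mul m⟩)
    ⟨1, one_mem _, 1, one_mem _, mul_one 1⟩ ?_ ?_ hm
  · rintro _ _ ⟨a, ha, b, hb, rfl⟩ ⟨c, hc, d, hd, rfl⟩
    refine ⟨a * c, mul_mem ha hc, b * d, mul_mem hb hd, ?_⟩
    calc a * c * (b * d) = a * (c * b) * d := by group
      _ = a * (b * c) * d := by rw [h.comm c b]
      _ = a * b * (c * d) := by group
  · rintro _ ⟨a, ha, b, hb, rfl⟩
    exact ⟨a⁻¹, inv_mem ha, b⁻¹, inv_mem hb, by rw [mul_inv_rev, h.comm]⟩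

theorem spread' {y z : MulAut M} (hy : y ∈ L) (hz : z ∈ L) : y • B = z • B ∨ y • B ⊓ z • B = ⊥ := by
  rcases h.spread (z⁻¹ * y) (mul_mem (inv_mem hz) hy) with h1 | h1
  · left
    have h2 := congrArg (fun K : Subgroup M => z • K) h1
    simp only [← mul_smul, mul_inv_cancel_left] at h2
    exact h2
  · right
    have h2 := congrArg (fun K : Subgroup M => z • K) h1
    simp only [Subgroup.smul_inf, ← mul_smul, mul_inv_cancel_left, Subgroup.smul_bot] at h2
    exact h2

theorem sup' {y z : MulAut M} (hy : y ∈ L) (hz : z ∈ L) (hne : y • B ≠ z • B) : y • B ⊔ z • B = ⊤ := by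
  have h0 : (z⁻¹ * y) • B ≠ B := by
    intro h1
    apply hne
    have h2 := congrArg (fun K : Subgroup M => z • K) h1
    simp only [← mul_smul, mul_inv_cancel_left] at h2
    exact h2
  have h1 := h.sup (z⁻¹ * y) (mul_mem (inv_mem hz) hy) h0
  have h2 := congrArg (fun K : Subgroup M => z • K) h1
  simp only [Subgroup.smul_sup, ← mul_smul, mul_inv_cancel_left] at h2
  rw [h2]
  ext m
  simp only [mem_top, iff_true]
  exact (Subgroup.mem_smul_pointwise_iff_exists _ _ _).2 ⟨z⁻¹ • m, mem_top _, by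
    rw [← mul_smul, mul_inv_cancel, one_smul]⟩

/-- an elation fixing a second component is trivial -/
theorem eq_one_of_fix {y z : MulAut M} (hy : y ∈ L) (hz : z ∈ L) (hne : y • B ≠ z • B) {a : MulAut M}
    (ha : a ∈ Vel L (y • B)) (hfix : a • z • B = z • B) : a = 1 := by
  have h1 : ∀ m ∈ z • B, a m = m := by
    intro m hm
    have h2 : a m ∈ z • B := by
      rw [← hfix]
      exact Subgroup.smul_mem_pointwise_smul _ a _ hm
    have h3 : a m * m⁻¹ ∈ y • B ⊓ z • B := mem_inf.2 ⟨ha.2.2 m, mul_mem h2 (inv_mem hm)⟩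
    rcases h.spread' hy hz with h4 | h4
    · exact absurd h4 hne
    rw [h4, mem_bot] at h3
    exact mul_inv_eq_one.1 h3
  have h5 := h.sup' hy hz hne
  ext m
  change a m = m
  have hm : m ∈ y • B ⊔ z • B := by rw [h5]; exact mem_top _
  exact sup_ind (p := fun m => a m = m) (fun m hm => ha.2.1 m hm)
    (fun m hm => h1 m hm) (map_one a) (fun m n hm hn => by rw [map_mul, hm, hn])
    (fun m hm => by rw [map_inv, hm]) hm

/-- a nontrivial elation fixes only its axis -/
theorem eq_of_fix {y z : MulAut M} (hy : y ∈ L) (hz : z ∈ L) {a : MulAut M} (ha : a ∈ Vel L (y • B))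
    (ha1 : a ≠ 1) (hfix : a • z • B = z • B) : y • B = z • B := by
  by_contra hne
  exact ha1 (h.eq_one_of_fix hy hz hne ha hfix)

theorem exists_other (y : MulAut M) : ∃ z ∈ L, z • B ≠ y • B := by
  by_contra hcon
  push Not at hcon
  obtain ⟨w, hw, hwB⟩ := h.two
  exact hwB ((hcon w hw).trans ((hcon 1 (one_mem _)).symm.trans (one_smul _ _)))

/-- `C_M(a) = B` for a nontrivial elation -/
theorem mem_of_fix {y : MulAut M} (hy : y ∈ L) {a : MulAut M} (ha : a ∈ Vel L (y • B)) (ha1 : a ≠ 1)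
    {m : M} (hm : a m = m) : m ∈ y • B := by
  obtain ⟨z, hz, hzy⟩ := h.exists_other y
  have hm' : m ∈ y • B ⊔ z • B := by rw [h.sup' hy hz (Ne.symm hzy)]; exact mem_top _
  obtain ⟨b, hb, k, hk, rfl⟩ := h.exists_mul hm'
  have h1 : a k = k := by
    rw [map_mul, ha.2.1 b hb] at hm
    exact mul_left_cancel hm
  by_cases hk1 : k = 1
  · rw [hk1, mul_one]
    exact hb
  exfalso
  -- `k ∈ z B ∩ a z B`
  apply ha1
  refine h.eq_one_of_fix hy hz (Ne.symm hzy) ha ?_
  rcases h.spread' (mul_mem ha.1 hz) hz with h2 | h2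
  · rwa [mul_smul] at h2
  · exfalso
    apply hk1
    have h3 : k ∈ (a * z) • B ⊓ z • B := by
      refine mem_inf.2 ⟨?_, hk⟩
      rw [mul_smul]
      have h4 := Subgroup.smul_mem_pointwise_smul _ a _ hk
      rwa [mulAut_smul, h1] at h4
    rw [h2, mem_bot] at h3
    exact h3

/-- a member of `Vel` normalising `Vel L (y B)` fixes `y B` -/
theorem fix_of_norm {y : MulAut M} (hy : y ∈ L) {v : MulAut M} (hv : v ∈ L)
    (hn : v ∈ normalizer (Vel L (y • B) : Set (MulAut M))) : v • y • B = y • B := by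
  obtain ⟨a, ha, ha1⟩ : ∃ a ∈ Vel L (y • B), a ≠ 1 := by
    by_contra hcon
    push Not at hcon
    apply h.ne
    rw [eq_bot_iff]
    intro b hb
    have h1 := conj_mem_Vel hy hb
    have h2 := hcon _ h1
    rw [mem_bot]
    have e : b = y⁻¹ * (y * b * y⁻¹) * y := by group
    rw [e, h2]
    group
  have h1 := (mem_normalizer_iff.1 hn a).1 ha
  have h1' : v * a * v⁻¹ ≠ 1 := by
    intro h2
    apply ha1
    have e : a = v⁻¹ * (v * a * v⁻¹) * v := by group
    rw [e, h2]
    group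
  have key : v • y • B ≤ y • B := by
    intro m hm
    obtain ⟨b, hb, rfl⟩ := (Subgroup.mem_smul_pointwise_iff_exists _ _ _).1 hm
    refine h.mem_of_fix hy h1 h1' ?_
    change v (a (v⁻¹ (v b))) = v b
    rw [MulAut.inv_apply_self, ha.2.1 b hb]
  -- equality by the dichotomy
  rcases h.spread' (mul_mem hv hy) hy with h2 | h2
  · rwa [mul_smul] at h2
  · rw [mul_smul, inf_eq_left.2 key] at h2
    have h3 : y • B = ⊥ := by
      have h4 := congrArg (fun K : Subgroup M => v⁻¹ • K) h2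
      simp only [← mul_smul, inv_mul_cancel_left, Subgroup.smul_bot] at h4
      exact h4
    rw [h2, h3]

/-- **TI** -/
theorem ti {g v : MulAut M} (hg : g ∈ L) (hv : v ∈ Vel L B) (hv1 : v ≠ 1)
    (hn : v ∈ normalizer ((MulAut.conj g • Vel L B : Subgroup (MulAut M)) : Set (MulAut M))) :
    MulAut.conj g • Vel L B = Vel L B := by
  rw [conj_Vel hg] at hn ⊢
  have h1 := h.fix_of_norm hg hv.1 hn
  have h2 : (1 : MulAut M) • B = g • B :=
    h.eq_of_fix (one_mem _) hg (by rw [one_smul]; exact hv) hv1 h1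
  rw [← h2, one_smul]

theorem sq_Vel {v : MulAut M} (hv : v ∈ Vel L B) : v * v = 1 := by
  ext m
  change v (v m) = m
  have h1 := hv.2.1 _ (hv.2.2 m)
  rw [map_mul, map_inv] at h1
  -- `v (v m) (v m)⁻¹ = v m m⁻¹`
  have h2 : v (v m) = v m * m⁻¹ * v m := by rw [← h1]; group
  rw [h2, h.comm (v m * m⁻¹) (v m)]
  have h3 := h.sq (v m)
  calc v m * (v m * m⁻¹) = v m * v m * m⁻¹ := by group
    _ = m⁻¹ := by rw [h3, one_mul]
    _ = m := inv_eq_of_mul_eq_one_left (h.sq m)

/-- The product of two elations with different axes has no fixed point. -/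
theorem eq_one_of_fix_mul {y z : MulAut M} (hy : y ∈ L) (hz : z ∈ L) (hne : y • B ≠ z • B)
    {a b : MulAut M} (ha : a ∈ Vel L (y • B)) (hb : b ∈ Vel L (z • B)) (ha1 : a ≠ 1) (hb1 : b ≠ 1)
    {m : M} (hm : a (b m) = m) : m = 1 := by
  -- `b m = a m`
  have haa : a * a = 1 := by
    have h1 := h.sq_Vel (v := y⁻¹ * a * y) (by
      have := conj_mem_Vel (inv_mem hy) ha
      rwa [← mul_smul, inv_mul_cancel, one_smul, inv_inv] at this)
    calc a * a = y * (y⁻¹ * a * y * (y⁻¹ * a * y)) * y⁻¹ := by group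
      _ = 1 := by rw [h1]; group
  have h1 : b m = a m := by
    have h2 : a (a (b m)) = a m := by rw [hm]
    have h3 : a (a (b m)) = b m := by
      change (a * a) (b m) = b m
      rw [haa]; rfl
    rw [← h2, h3]
  have h2 : a m * m⁻¹ ∈ y • B ⊓ z • B := by
    refine mem_inf.2 ⟨ha.2.2 m, ?_⟩
    rw [← h1]
    exact hb.2.2 m
  rcases h.spread' hy hz with h3 | h3
  · exact absurd h3 hne
  rw [h3, mem_bot] at h2
  have h4 := mul_inv_eq_one.1 h2
  have h5 := h.mem_of_fix hy ha ha1 h4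
  have h6 := h.mem_of_fix hz hb hb1 (h1.trans h4)
  have h7 : m ∈ y • B ⊓ z • B := mem_inf.2 ⟨h5, h6⟩
  rwa [h3, mem_bot] at h7

end Elat

end Cfsg.Agent.Omega.Spread

end

section


/-!
# The divisibility for invariant subgroups (#17060 (f), #17127)
-/

set_option autoImplicit false

namespace Cfsg.Agent.Omega.Spread

open Subgroup
open Cfsg.Agent.Omega.NOne.Flat.TI (Tis Pt J)
open scoped Pointwise

theorem dvd_of_two_pow {k m : ℕ} (h : 2 ^ k - 1 ∣ 2 ^ m - 1) : k ∣ m := by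
  have h1 : Nat.gcd (2 ^ k - 1) (2 ^ m - 1) = 2 ^ k - 1 := Nat.gcd_eq_left h
  rw [Nat.pow_sub_one_gcd_pow_sub_one] at h1
  have h2 : 0 < 2 ^ k := by positivity
  have h3 : 0 < 2 ^ Nat.gcd k m := by positivity
  have h4 : 2 ^ Nat.gcd k m = 2 ^ k := by omega
  have h5 := Nat.pow_right_injective (le_refl 2) h4
  rw [← h5]
  exact Nat.gcd_dvd_right k m

universe u

variable {M : Type u} [Group M] {L : Subgroup (MulAut M)} {B : Subgroup M}

namespace Elat

variable (h : Elat L B)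
include h

theorem ne_Vel {y : MulAut M} (hy : y ∈ L) : ∃ a ∈ Vel L (y • B), a ≠ 1 := by
  by_contra hcon
  push Not at hcon
  apply h.ne
  rw [eq_bot_iff]
  intro b hb
  have h1 := conj_mem_Vel hy hb
  have h2 := hcon _ h1
  rw [mem_bot]
  have e : b = y⁻¹ * (y * b * y⁻¹) * y := by group
  rw [e, h2]
  group

theorem Vel_inj {y z : MulAut M} (hy : y ∈ L) (hz : z ∈ L) (he : Vel L (y • B) = Vel L (z • B)) :
    y • B = z • B := by
  obtain ⟨a, ha, ha1⟩ := h.ne_Vel hy
  refine h.eq_of_fix hy hz ha ha1 ?_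
  rw [he] at ha
  exact smul_self_of_mem ha

theorem tis : Tis L (Vel L B) where
  le := Vel_le
  sq := fun _ hv => h.sq_Vel hv
  ne := h.ne
  ti := fun _ hg _ hv hv1 hn => h.ti hg hv hv1 hn

/-- **The divisibility.** -/
theorem dvd [Finite M] {z : MulAut M} (hz : z ∈ L) (hzB : z • B ≠ B) (I : Subgroup M)
    (hI : ∀ g ∈ L, g • B = B → g • z • B = z • B → ∀ m ∈ I, g m ∈ I) :
    Nat.card (Vel L B) - 1 ∣ Nat.card I - 1 := by
  classical
  have hfin : Finite (MulAut M) := Finite.of_injective (fun a : MulAut M => (a : M → M)) fun a b hab =>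
    MulEquiv.ext fun m => congrFun hab m
  have h1 : Pt L (Vel L B) (Vel L B) := ⟨1, one_mem _, by rw [map_one, one_smul]⟩
  have h2 : Pt L (Vel L B) (Vel L (z • B)) := ⟨z, hz, (conj_Vel hz).symm⟩
  have hne : Vel L B ≠ Vel L (z • B) := by
    intro h3
    apply hzB
    have h4 : Vel L ((1 : MulAut M) • B) = Vel L (z • B) := by rw [one_smul]; exact h3
    have h5 := h.Vel_inj (one_mem _) hz h4
    rw [one_smul] at h5
    exact h5.symm
  have hfixB : ∀ g ∈ L, ∀ y ∈ L, MulAut.conj g • Vel L (y • B) = Vel L (y • B) → g • y • B = y • B := by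
    intro g hg y hy h3
    rw [conj_Vel hg, ← mul_smul] at h3
    rw [← mul_smul]
    exact h.Vel_inj (mul_mem hg hy) hy h3
  have h3 := h.tis.dvd h1 h2 hne (Ω := M) {m : M | m ∈ I ∧ m ≠ 1} ?_ ?_
  · have h4 : Nat.card {m : M | m ∈ I ∧ m ≠ 1} = Nat.card I - 1 := by
      rw [← Cfsg.Agent.Omega.NOne.Flat.TI.card_ne_one I]
      refine Nat.card_congr ⟨fun m => ⟨⟨m.1, m.2.1⟩, m.2.2⟩, fun m => ⟨m.1.1, m.1.2, m.2⟩, fun m => rfl,
        fun m => rfl⟩
    rwa [h4] at h3
  · intro g hg hg1 hg2 m hm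
    have h4 : g • B = B := by
      have := hfixB g hg 1 (one_mem _) (by rw [one_smul]; exact hg1)
      rwa [one_smul] at this
    have h5 : g • z • B = z • B := hfixB g hg z hz hg2
    refine ⟨hI g hg h4 h5 m hm.1, fun h6 => hm.2 ?_⟩
    have h7 : g m = 1 := h6
    exact (map_eq_one_iff g (MulEquiv.injective g)).1 h7
  · intro s hs s' hs' m hm hfix
    by_contra hss
    obtain ⟨⟨C, ⟨g, hg, rfl⟩, hsC, hs1⟩, hs2⟩ := id hs
    obtain ⟨⟨C', ⟨g', hg', rfl⟩, hsC', hs1'⟩, hs2'⟩ := id hs'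
    rw [conj_Vel hg] at hsC
    rw [conj_Vel hg'] at hsC'
    by_cases hgg : g • B = g' • B
    · have h4 := h.tis.J_pt_ne h2 hne hs hs' hss ⟨g, hg, rfl⟩ (by rw [conj_Vel hg]; exact hsC)
      apply h4
      rw [conj_Vel hg, hgg]
      exact hsC'
    · exact hm.2 (h.eq_one_of_fix_mul hg hg' hgg hsC hsC' hs1 hs1' hfix)

/-- the order of an invariant subgroup is a power of `|Vel|` -/
theorem card_eq_pow [Finite M] {z : MulAut M} (hz : z ∈ L) (hzB : z • B ≠ B) (I : Subgroup M)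
    (hI : ∀ g ∈ L, g • B = B → g • z • B = z • B → ∀ m ∈ I, g m ∈ I) :
    ∃ k, Nat.card I = Nat.card (Vel L B) ^ k := by
  have hfin : Finite (MulAut M) := Finite.of_injective (fun a : MulAut M => (a : M → M)) fun a b hab =>
    MulEquiv.ext fun m => congrFun hab m
  have h2 : Fact (Nat.Prime 2) := ⟨Nat.prime_two⟩
  have hI2 : IsPGroup 2 I := fun m => ⟨1, Subtype.ext (by
    have := h.sq (m : M)
    rw [pow_one, pow_two]
    exact this)⟩
  have hV2 : IsPGroup 2 (Vel L B) := fun v => ⟨1, Subtype.ext (by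
    have := h.sq_Vel v.2
    rw [pow_one, pow_two]
    exact this)⟩
  obtain ⟨d, hd⟩ := IsPGroup.iff_card.1 hI2
  obtain ⟨f, hf⟩ := IsPGroup.iff_card.1 hV2
  have h3 := h.dvd hz hzB I hI
  rw [hd, hf] at h3
  obtain ⟨k, hk⟩ := dvd_of_two_pow h3
  exact ⟨k, by rw [hd, hf, ← pow_mul, hk]⟩

end Elat

end Cfsg.Agent.Omega.Spread

end

end

-- merged: Cfsg.Agent.Mrg.Omega.Spread.ElatOf
section

section


/-!
# The elations on `E E^x / F` (#17060 (g))
-/

set_option autoImplicit false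

namespace Cfsg.Agent.Omega.NOne.Flat

open Subgroup Cfsg Cfsg.Agent.Omega.NoFF.Basic Cfsg.Agent.Omega.NOne.Frame
open Cfsg.Agent.Omega.NOne.NearFF (Near c c_def)
open Cfsg.Agent.ZN (o2)
open Cfsg.Agent.MinSimple.VModule
open Cfsg.Agent.Omega.Spread (Vel Elat map_eq_smul)
open scoped Pointwise

universe u

variable {G : Type u} [Group G]

theorem Sect.smul_B {H N D : Subgroup G} {M : Type u} [Group M] (s : Sect H N D M) (l : H)
    (K : Subgroup G) : (s.ρ l) • s.B K = s.B (MulAut.conj (l : G) • K) := by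
  rw [← map_eq_smul]
  exact s.B_map l K

namespace Hyp

variable {V F : Subgroup G} (h : Hyp V F)
include h

omit h in
theorem card_conjE (g : G) : Nat.card ↥(MulAut.conj g • EE V F) = Nat.card ↥(EE V F) :=
  Choice.card_conj _ _

/-- an element of `V^x - E^x` moves `E` -/
theorem exists_moves [Finite G] {x : G} (hx : x ∈ centralizer (F : Set G)) (hb : BadX V x) :
    ∃ w ∈ MulAut.conj x • V, w ∈ HX V F x ∧ MulAut.conj w • EE V F ≠ EE V F := by
  have : Fact (Nat.Prime 2) := ⟨Nat.prime_two⟩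
  obtain ⟨w, hw, hwE⟩ := h.exists_not_mem_conj x
  have hgood := h.good_self hx hb
  refine ⟨w, hw, h.conjV_le_HX hgood hw, fun hwE' => ?_⟩
  have hwX : w ∈ centralizer (F : Set G) := h.conjV_le_X hx hw
  -- a fixed vector of `w` on `E / F`
  have hwn : w ∈ normalizer (EE V F : Set G) := by
    rw [mem_normalizer_iff]
    intro n
    constructor
    · intro hn
      rw [← hwE']
      exact Frame.conj_mem hn
    · intro hn
      rw [← hwE'] at hn
      rw [mem_conj] at hn
      have e : w⁻¹ * (w * n * w⁻¹) * w = n := by group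
      rwa [e] at hn
  have hP : IsPGroup 2 (zpowers w) := by
    have h1 : IsPGroup 2 ↥(MulAut.conj x • V) := Choice.isPGroup_conj h.V_isPGroup x
    exact h1.to_le (zpowers_le.2 hw)
  have hPn : zpowers w ≤ normalizer (EE V F : Set G) := zpowers_le.2 hwn
  have hE2 : IsPGroup 2 (EE V F) := h.V_isPGroup.to_le inf_le_left
  have hY : IsPGroup 2 (zpowers w ⊔ EE V F : Subgroup G) := IsPGroup.to_sup_of_normal_right' hP hE2 hPn
  have hYn : zpowers w ⊔ EE V F ≤ normalizer (EE V F : Set G) := sup_le hPn le_normalizer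
  have hYX : zpowers w ⊔ EE V F ≤ centralizer (F : Set G) :=
    sup_le (zpowers_le.2 hwX) (inf_le_left.trans h.V_le_X)
  obtain ⟨e0, he0, he0F⟩ := SetLike.not_le_iff_exists.1 (not_le_of_gt h.F_lt_E)
  obtain ⟨n, hn, hnF, hfix⟩ := GTwoFour.Tools.exists_fixed_mod (M := F) hY le_sup_right
    (fun y hy n hn => norm_mem (hYn hy) hn)
    (fun y hy m hm => norm_mem (X_norm_F (hYX hy)) hm) ⟨e0, he0, he0F⟩
  have h1 := hgood.reg n (mem_sup_left hn) w hw hwE (hfix w (mem_sup_left (mem_zpowers w)))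
  apply hnF
  rw [← h.inf_eq_of_bad hx hb]
  exact mem_inf.2 ⟨hn.1, conjE_le_conjV x h1⟩

/-- **The elation structure on `E E^x / F`.** -/
theorem elat [Finite G] {x : G} (hx : x ∈ centralizer (F : Set G)) (hb : BadX V x)
    {M : Type u} [Group M] (s : Sect (HX V F x) (EX V F x) F M) :
    Elat s.ρ.range (s.B (EE V F)) := by
  have hXW : EX V F x ≤ WW V F := EEx_le_W hx
  have hg1 := h.good_one hx hb
  have hgl : ∀ l : ↥(HX V F x), Good V F x (l : G) := fun l => by
    have := hg1.mul l.2.1 l.2.2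
    rwa [mul_one] at this
  have h1E : MulAut.conj (1 : G) • EE V F = EE V F := by rw [map_one, one_smul]
  refine
    { comm := ?_
      sq := ?_
      spread := ?_
      sup := ?_
      two := ?_
      ne := ?_ }
  · intro m n
    obtain ⟨a, rfl⟩ := s.surj m
    obtain ⟨b, rfl⟩ := s.surj n
    rw [← map_mul, ← map_mul, s.π_eq_iff]
    have h1 := h.comm_WW (inv_mem (hXW b.2)) (inv_mem (hXW a.2))
    have e : (((a * b : ↥(EX V F x)) : G))⁻¹ * ((b * a : ↥(EX V F x)) : G) = c (b : G)⁻¹ (a : G)⁻¹ := by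
      rw [c]; push_cast; group
    rw [e]
    exact h1
  · intro m
    obtain ⟨a, rfl⟩ := s.surj m
    rw [← map_mul, s.ker]
    exact h.sq_W (hXW a.2)
  · rintro _ ⟨l, rfl⟩
    rw [s.smul_B]
    rcases h.dich hx (hgl l) hg1 with ⟨h1, -⟩ | ⟨-, h1⟩
    · left
      rw [h1, h1E]
    · right
      rw [h1E] at h1
      rw [s.B_inf h.F_le_E, h1, s.B_D]
  · rintro _ ⟨l, rfl⟩ hne
    rw [s.smul_B] at hne ⊢
    rw [s.B_sup (hgl l).le le_sup_left, ← s.B_N]
    congr 1
    have hinf : MulAut.conj (l : G) • EE V F ⊓ EE V F = F := by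
      rcases h.dich hx (hgl l) hg1 with ⟨h1, -⟩ | ⟨-, h1⟩
      · rw [h1E] at h1
        exact absurd (by rw [h1]) hne
      · rwa [h1E] at h1
    have hinf' : MulAut.conj x • EE V F ⊓ EE V F = F := by
      apply le_antisymm
      · rw [← h.inf_eq_of_bad hx hb, inf_comm]
        exact inf_le_inf inf_le_left (conjE_le_conjV x)
      · exact le_inf (h.F_le_conjE hx) h.F_le_E
    have hn : ∀ g ∈ centralizer (F : Set G), MulAut.conj g • EE V F ≤ normalizer (EE V F : Set G) :=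
      fun g hg => h.W_norm_of_le (conjE_le_W hg) E_le_W h.F_le_E
    have k1 := Off.card_sup_mul_inf (hn _ (hgl l).gX)
    have k2 := Off.card_sup_mul_inf (hn _ hx)
    rw [hinf, card_conjE] at k1
    rw [hinf', card_conjE, ← k1] at k2
    have k3 : Nat.card ↥(MulAut.conj x • EE V F ⊔ EE V F) =
        Nat.card ↥(MulAut.conj (l : G) • EE V F ⊔ EE V F) := Nat.eq_of_mul_eq_mul_right Nat.card_pos k2
    refine Subgroup.eq_of_le_of_card_ge (sup_le (hgl l).le le_sup_left) ?_
    rw [← k3, EX, sup_comm]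
  · obtain ⟨w, -, hwH, hwE⟩ := h.exists_moves hx hb
    refine ⟨s.ρ ⟨w, hwH⟩, ⟨_, rfl⟩, fun h1 => hwE ?_⟩
    rw [s.smul_B] at h1
    exact s.B_inj (h.F_le_conjE hwH.2) (hgl ⟨w, hwH⟩).le h.F_le_E le_sup_left h1
  · obtain ⟨w, hw, hwE⟩ := h.exists_not_mem
    have hw1 : w ∈ MulAut.conj (1 : G) • V := by rwa [map_one, one_smul]
    have hwH : w ∈ HX V F x := h.conjV_le_HX hg1 hw1
    intro h1
    have h2 : s.ρ ⟨w, hwH⟩ ∈ Vel s.ρ.range (s.B (EE V F)) := by
      refine ⟨⟨_, rfl⟩, ?_, ?_⟩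
      · rintro _ ⟨n, hn, rfl⟩
        rw [s.ρπ]
        congr 1
        apply Subtype.ext
        have h3 : w * (n : G) = n * w := h.V_comm hw (mem_inf.1 (show (n : G) ∈ EE V F from hn)).1
        change w * (n : G) * w⁻¹ = n
        rw [h3, mul_inv_cancel_right]
      · intro m
        obtain ⟨n, rfl⟩ := s.surj m
        rw [s.ρπ, ← map_inv, ← map_mul, s.mem_B h.F_le_E]
        exact h.c_memE hw (hXW n.2)
    rw [h1, mem_bot, s.ρ_eq_one_iff] at h2
    have h3 := (h.ker_conj hx hb hg1 hw1).1 h2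
    rw [h1E] at h3
    exact hwE h3

/-- `|V / E| ≤ |Vel|` -/
theorem relIndex_le_Vel [Finite G] {x : G} (hx : x ∈ centralizer (F : Set G)) (hb : BadX V x)
    {M : Type u} [Group M] [Finite M] (s : Sect (HX V F x) (EX V F x) F M) :
    (EE V F).relIndex V ≤ Nat.card (Vel s.ρ.range (s.B (EE V F))) := by
  have hXW : EX V F x ≤ WW V F := EEx_le_W hx
  have hg1 := h.good_one hx hb
  have hVH : V ≤ HX V F x := by
    have := h.conjV_le_HX hg1
    rwa [map_one, one_smul] at this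
  have h1 : ∀ k (hk : k ∈ V), s.ρ ⟨k, hVH hk⟩ = 1 ↔ k ∈ EE V F := by
    intro k hk
    rw [s.ρ_eq_one_iff]
    have hk1 : k ∈ MulAut.conj (1 : G) • V := by rwa [map_one, one_smul]
    have := h.ker_conj hx hb hg1 hk1
    rwa [map_one, one_smul] at this
  rw [← s.card_A hVH h1]
  refine Subgroup.card_le_of_le ?_
  rintro _ ⟨⟨w, hwH⟩, hw, rfl⟩
  have hw' : w ∈ V := hw
  refine ⟨⟨_, rfl⟩, ?_, ?_⟩
  · rintro _ ⟨n, hn, rfl⟩
    rw [s.ρπ]
    congr 1
    apply Subtype.ext
    have h3 : w * (n : G) = n * w := h.V_comm hw' (mem_inf.1 (show (n : G) ∈ EE V F from hn)).1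
    change w * (n : G) * w⁻¹ = n
    rw [h3, mul_inv_cancel_right]
  · intro m
    obtain ⟨n, rfl⟩ := s.surj m
    rw [s.ρπ, ← map_inv, ← map_mul, s.mem_B h.F_le_E]
    exact h.c_memE hw' (hXW n.2)

end Hyp

end Cfsg.Agent.Omega.NOne.Flat

end

section


/-!
# THEOREM OFF (#16468, #16603, #16381) without socket

`Hyp.off_all : F ≤ E₀ → E₀ ≤ E → |E₀ : F| ≤ |W : C_W(E₀)|` (every `|V : E|`); the divisibility of
#17060 / #17127 replaces THEOREM FIELD.
-/

set_option autoImplicit false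

namespace Cfsg.Agent.Omega.NOne.Flat

open Subgroup Cfsg Cfsg.Agent.Omega.NoFF.Basic Cfsg.Agent.Omega.NOne.Frame
open Cfsg.Agent.Omega.NOne.NearFF (Near c c_def)
open Cfsg.Agent.ZN (o2)
open Cfsg.Agent.MinSimple.VModule
open Cfsg.Agent.Omega.Spread (Vel Elat map_eq_smul)
open scoped Pointwise

universe u

variable {G : Type u} [Group G]

namespace Hyp

variable {V F : Subgroup G} (h : Hyp V F)
include h

/-- `g(E₀)` is invariant under `N_X(E)` -/
theorem gg_conj {l : G} (hl : l ∈ centralizer (F : Set G)) (E0 : Subgroup G) :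
    gg V F (MulAut.conj l • E0) = gg V F E0 := by
  have e2 : F.relIndex (MulAut.conj l • E0) = F.relIndex E0 := by
    have := relIndex_conj l F E0
    rwa [conj_eq_of_cent hl] at this
  have e3 : (centralizer ((MulAut.conj l • E0 : Subgroup G) : Set G)).relIndex (WW V F) =
      (centralizer (E0 : Set G)).relIndex (WW V F) := by
    have := relIndex_conj l (centralizer (E0 : Set G)) (WW V F)
    rwa [conj_W hl, conj_centralizer] at this
  rw [gg, gg, e2, e3]

/-- `|W : C_W(E₀)| = |E^w : C_{E^w}(E₀)|` for `w` bad -/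
theorem relIndex_W_eq [Finite G] {w : G} (hw : w ∈ centralizer (F : Set G)) (hb : BadX V w)
    {E0 : Subgroup G} (hE : E0 ≤ EE V F) :
    (centralizer (E0 : Set G)).relIndex (WW V F) =
      (centralizer (E0 : Set G)).relIndex (MulAut.conj w • EE V F) := by
  set K : Subgroup G := WW V F ⊓ centralizer (E0 : Set G) with hK
  set D : Subgroup G := MulAut.conj w • EE V F with hD
  have hDW : D ≤ WW V F := conjE_le_W hw
  have hNK : NN V F ≤ K := NN_le_cent_E0 hE
  have hFK : F ≤ K := h.F_le_NN.trans hNK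
  have hsup : D ⊔ K = WW V F := by
    apply le_antisymm (sup_le hDW inf_le_left)
    intro s hs
    obtain ⟨f, hf, hfs⟩ := h.exists_conjE_mul hw hb hs
    have e : s = f * (f⁻¹ * s) := by group
    rw [e]
    exact mul_mem_sup hf (hNK hfs)
  have hn : D ≤ normalizer (K : Set G) := h.W_norm_of_le hDW inf_le_left hFK
  have k1 := Off.card_sup_mul_inf hn
  rw [hsup] at k1
  have hDK : D ⊓ K = D ⊓ centralizer (E0 : Set G) := by
    rw [hK, ← inf_assoc, inf_eq_left.2 hDW]
  rw [hDK] at k1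
  have k2 := card_mul_relIndex' (inf_le_left : K ≤ WW V F)
  rw [inf_relIndex_left] at k2
  have k3 := card_mul_relIndex' (inf_le_left : D ⊓ centralizer (E0 : Set G) ≤ D)
  rw [inf_relIndex_left] at k3
  rw [← k2, ← k3] at k1
  have hp : 0 < Nat.card K * Nat.card ↥(D ⊓ centralizer (E0 : Set G)) :=
    Nat.mul_pos Nat.card_pos Nat.card_pos
  apply Nat.eq_of_mul_eq_mul_left hp
  calc Nat.card K * Nat.card ↥(D ⊓ centralizer (E0 : Set G)) *
      (centralizer (E0 : Set G)).relIndex (WW V F) =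
        Nat.card K * (centralizer (E0 : Set G)).relIndex (WW V F) *
          Nat.card ↥(D ⊓ centralizer (E0 : Set G)) := by ring
    _ = Nat.card ↥(D ⊓ centralizer (E0 : Set G)) * (centralizer (E0 : Set G)).relIndex D *
          Nat.card K := k1
    _ = _ := by ring

/-- **THEOREM OFF.** -/
theorem off_all [Finite G] {E0 : Subgroup G} (hF : F ≤ E0) (hE : E0 ≤ EE V F) :
    F.relIndex E0 ≤ (centralizer (E0 : Set G)).relIndex (WW V F) := by
  obtain ⟨E1, hF1, hE1, hmin, hleast⟩ := h.exists_least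
  -- it is enough to show `g(E₁) ≥ 1`
  suffices hsuff : F.relIndex E1 ≤ (centralizer (E1 : Set G)).relIndex (WW V F) by
    have k1 : 1 ≤ gg V F E1 := by
      rw [gg, le_div_iff₀ (relIndex_pos' _ _), one_mul]
      exact_mod_cast hsuff
    have k2 := k1.trans (hmin E0 hF hE)
    rw [gg, le_div_iff₀ (relIndex_pos' _ _), one_mul] at k2
    exact_mod_cast k2
  by_cases hlt : F = E1
  · rw [← hlt, relIndex_self]
    exact Nat.one_le_iff_ne_zero.2 index_ne_zero_of_finite
  have hlt' : F < E1 := lt_of_le_of_ne hF1 hlt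
  -- the frame
  obtain ⟨a, ha, haE⟩ := h.exists_not_mem
  obtain ⟨x, hx, hb, -, -⟩ := h.exists_near ha haE
  obtain ⟨M, hM, ⟨s⟩⟩ := exists_sectEX (V := V) hx
  have hMfin : Finite M := Finite.of_surjective s.π s.surj
  have el := h.elat hx hb s
  have hn := h.relIndex_le_Vel hx hb s
  set n := Nat.card (Vel s.ρ.range (s.B (EE V F))) with hndef
  obtain ⟨w, -, hwH, hwE⟩ := h.exists_moves hx hb
  have hg1 := h.good_one hx hb
  have hgl : ∀ l : ↥(HX V F x), Good V F x (l : G) := fun l => by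
    have := hg1.mul l.2.1 l.2.2
    rwa [mul_one] at this
  have h1E : MulAut.conj (1 : G) • EE V F = EE V F := by rw [map_one, one_smul]
  have hwX : w ∈ centralizer (F : Set G) := hwH.2
  -- `w` is bad
  have hwb : BadX V w := by
    rcases h.dich hx hg1 (hgl ⟨w, hwH⟩) with ⟨h1, -⟩ | ⟨h1, -⟩
    · rw [h1E] at h1
      exact absurd h1.symm hwE
    · rwa [inv_one, one_mul] at h1
  have hFw : F ≤ MulAut.conj w • EE V F := h.F_le_conjE hwX
  have hwle : MulAut.conj w • EE V F ≤ EX V F x := (hgl ⟨w, hwH⟩).le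
  set z := s.ρ ⟨w, hwH⟩ with hz
  have hzB : z • s.B (EE V F) ≠ s.B (EE V F) := by
    intro h1
    rw [hz, s.smul_B] at h1
    exact hwE (s.B_inj hFw hwle h.F_le_E le_sup_left h1)
  -- invariant subgroups
  have key : ∀ K : Subgroup G, F ≤ K → K ≤ EX V F x →
      (∀ l ∈ HX V F x, MulAut.conj l • EE V F = EE V F →
        MulAut.conj l • MulAut.conj w • EE V F = MulAut.conj w • EE V F → MulAut.conj l • K ≤ K) →
      ∃ k, F.relIndex K = n ^ k := by
    intro K hFK hK hinv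
    rw [← s.card_B hK]
    refine el.card_eq_pow (z := z) ⟨_, rfl⟩ hzB (s.B K) ?_
    rintro _ ⟨l, rfl⟩ h1 h2 _ ⟨k, hk, rfl⟩
    rw [s.smul_B] at h1
    have h1' : MulAut.conj (l : G) • EE V F = EE V F :=
      s.B_inj (h.F_le_conjE l.2.2) (hgl l).le h.F_le_E le_sup_left h1
    rw [hz, s.smul_B, s.smul_B] at h2
    have hlw := (hgl ⟨w, hwH⟩).mul l.2.1 l.2.2
    have h2' : MulAut.conj (l : G) • MulAut.conj w • EE V F = MulAut.conj w • EE V F := by
      refine s.B_inj ?_ ?_ hFw hwle h2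
      · rw [conj_conj]
        exact h.F_le_conjE (mul_mem l.2.2 hwX)
      · rw [conj_conj]
        exact hlw.le
    have h3 := hinv l l.2 h1' h2'
    rw [s.ρπ, s.mem_B hFK]
    exact h3 (Frame.conj_mem hk)
  -- `E₁` is invariant
  have hE1inv : ∀ l ∈ HX V F x, MulAut.conj l • EE V F = EE V F → MulAut.conj l • E1 = E1 := by
    intro l hl hlE
    have hF' : F ≤ MulAut.conj l • E1 := by
      have := conj_le_iff (g := l) |>.2 hF1
      rwa [conj_eq_of_cent hl.2] at this
    have hE' : MulAut.conj l • E1 ≤ EE V F := by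
      have := conj_le_iff (g := l) |>.2 hE1
      rwa [hlE] at this
    have e1 := hleast _ hF' hE' (h.gg_conj hl.2 E1)
    exact (Subgroup.eq_of_le_of_card_ge e1 (Choice.card_conj _ _).le).symm
  obtain ⟨i, hi⟩ := key E1 hF1 (hE1.trans le_sup_left) fun l hl h1 _ => (hE1inv l hl h1).le
  obtain ⟨j, hj⟩ := key (MulAut.conj w • EE V F) hFw hwle fun l _ _ h2 => h2.le
  have hF3 : F ≤ MulAut.conj w • EE V F ⊓ centralizer (E1 : Set G) := by
    refine le_inf hFw ?_
    exact comm_mono h.comm h.F_le_V (hE1.trans E_le_V)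
  obtain ⟨k, hk⟩ := key (MulAut.conj w • EE V F ⊓ centralizer (E1 : Set G)) hF3
    (inf_le_left.trans hwle) fun l hl h1 h2 => by
      rw [Subgroup.smul_inf, h2, conj_centralizer, hE1inv l hl h1]
  have e1 := h.lt_mul hlt' hE1
  have e2 := relIndex_mul_relIndex F (MulAut.conj w • EE V F ⊓ centralizer (E1 : Set G))
    (MulAut.conj w • EE V F) hF3 inf_le_left
  rw [inf_relIndex_left, hj, hk, ← h.relIndex_W_eq hwX hwb hE1] at e2
  rw [hi] at e1 ⊢
  set r := (centralizer (E1 : Set G)).relIndex (WW V F) with hr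
  have hq2 : 1 < n := by
    refine lt_of_lt_of_le ?_ hn
    have h1 : (EE V F).relIndex V ≠ 0 := index_ne_zero_of_finite
    have h2 : (EE V F).relIndex V ≠ 1 := by
      rw [Ne, relIndex_eq_one]
      exact fun h2 => haE (h2 ha)
    omega
  have hkj : k ≤ j := by
    have h1 : n ^ k ∣ n ^ j := ⟨r, e2.symm⟩
    exact (Nat.pow_dvd_pow_iff_le_right hq2).1 h1
  have hr' : r = n ^ (j - k) := by
    have h1 : n ^ k * r = n ^ k * n ^ (j - k) := by rw [e2, ← pow_add]; congr 1; omega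
    exact Nat.eq_of_mul_eq_mul_left (pow_pos (by omega) _) h1
  rw [hr'] at e1 ⊢
  have e3 : n ^ i < n * n ^ (j - k) := lt_of_lt_of_le e1 (Nat.mul_le_mul_right _ hn)
  rw [← pow_succ'] at e3
  have h2 := (Nat.pow_lt_pow_iff_right hq2).1 e3
  exact Nat.pow_le_pow_right (by omega) (by omega)

/-- **COROLLARY A** without socket: `|Y : C_Y(W)| ≤ |W : C_W(Y)|` for `Y ≤ E`. -/
theorem off_of_le_all [Finite G] {Y : Subgroup G} (hY : Y ≤ EE V F) :
    (centralizer (WW V F : Set G)).relIndex Y ≤ (centralizer (Y : Set G)).relIndex (WW V F) :=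
  h.off_of_le (fun _ hF hE => h.off_all hF hE) hY

end Hyp

end Cfsg.Agent.Omega.NOne.Flat

end

end
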