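import Cfsg.Agent.Mrg.Omega.Spread.ElatOf
import Cfsg.Agent.Mrg.Omega.NO3b.Union.Asm
import Cfsg.Agent.Mrg.Omega.NOThreeL.AFour.NotFF
import Cfsg.Agent.Mrg.Omega.NOThreeL.NF.Final
import Cfsg.Agent.Mrg.Omega.NOThreeL.RTools.Two
import Cfsg.Agent.Mrg.Omega.NOThreeL.Low.Defs

section


/-!
# THEOREM OFF plugged into its consumers

* `offAll : NOThreeL.AFour.OffAll`, `stmtOff : NO3b.Wc.StmtOff G` : THEOREM OFF, no hypothesis;
* `notFF : NO3b.Final.LocMax K → NO3S.NotFF K` : the leaf `NotFF` from the local exit alone;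
* `comm_of_cf`, `comm_of_notFF`, `not_pairA`, `exists_offM` : (A4b) of NO-3L, no socket.
-/

set_option autoImplicit false

namespace Cfsg.Agent.Omega.Spread.Plug

open Subgroup Cfsg Cfsg.Agent.ZN Cfsg.Agent.ZN.ChoiceBase Cfsg.Agent.Omega.MinPar Cfsg.Agent.Omega.Frame
open Cfsg.Agent.Omega.NO3b Cfsg.Agent.Omega.NO3b.Union
open Cfsg.Agent.Omega.FFThm (OffM)
open Cfsg.Agent.Omega.Node.NO3L Cfsg.Agent.Omega.NOThreeL.Basic
open Cfsg.Agent.Omega.FrameNOFF (CZ)

universe u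

/-- **THEOREM OFF**, as used in NO-3L. -/
theorem offAll : NOThreeL.AFour.OffAll.{u} := fun _ _ _ _ _ h _ hF hE => h.off_all hF hE

/-- **THEOREM OFF**, as used in NotFF. -/
theorem stmtOff (G : Type u) [Group G] [Finite G] : Wc.StmtOff G := fun _ _ h _ hF hE => h.off_all hF hE

/-- **The leaf `NotFF` from the local exit.** -/
theorem notFF {K : Cls.{u}} (hL : Final.LocMax K) : NO3S.NotFF K :=
  Final.notFF (fun G _ _ => stmtOff G) hL

variable {G : Type u} [Group G] [Finite G] {S : Sylow 2 G} {P H : Subgroup G}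

theorem comm_of_cf (h : Cf S P) (low : zl (S : Subgroup G) P ≤ o2 (CZ (S : Subgroup G)))
    (hH : IsLoc (S : Subgroup G) H) :
    zl (S : Subgroup G) P ≤ centralizer (zl (S : Subgroup G) H : Set G) :=
  NOThreeL.AFour.comm_of_cf offAll h low hH

theorem comm_of_notFF (hc : IsCharacteristicTwoType G) (D : Data (S : Subgroup G))
    (hP : IsParS (S : Subgroup G) P) (hn : ∀ A : Subgroup G, A ≤ P → ¬ OffM (zl (S : Subgroup G) P) A)
    (hH : IsLong (S : Subgroup G) H) :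
    zl (S : Subgroup G) P ≤ centralizer (zl (S : Subgroup G) H : Set G) :=
  NOThreeL.AFour.comm_of_notFF offAll hc D hP hn hH

theorem not_pairA (hc : IsCharacteristicTwoType G) (D : Data (S : Subgroup G))
    (hn : ∀ A : Subgroup G, A ≤ P → ¬ OffM (zl (S : Subgroup G) P) A) :
    ¬ PairA (S : Subgroup G) P H := NOThreeL.AFour.not_pairA offAll hc D hn

theorem exists_offM (hc : IsCharacteristicTwoType G) (D : Data (S : Subgroup G))
    (h : PairA (S : Subgroup G) P H) : ∃ A : Subgroup G, A ≤ P ∧ OffM (zl (S : Subgroup G) P) A :=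
  NOThreeL.AFour.exists_offM offAll hc D h

end Cfsg.Agent.Omega.Spread.Plug

end

section


/-!
# THEOREM LOW (#19191, helper597; #19093, helper876), the front: galleries of good lines

`S` a Sylow 2-subgroup, `M ≤ N_G(V)` a group containing all `P ∈ P*(S)`, `F` a maximal bad subgroup of `V`
(`Flat.Hyp V F`), `X = C_G(F)`, `R = O₂(X)`, `E = V ∩ R = EE V F`, `W = ⟨E^X⟩ = WW V F`.

A *chamber* is an element `g` of `M` (standing for `S^g = MulAut.conj g • S`); its lines are `V_P^g`,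
`P ∈ P*(S)`; a line is *good* if it is contained in `E`.

* `Ch M S W n g` : `g` is at gallery distance at most `n` from a chamber `a ∈ M` with `W ≤ S^a`;
* `Fr S M V F n` : all lines of chambers at distance `< n` are good, `1` is at distance `≤ n`;
* `Fr.gal` : **(GAL)** good lines `l`, `l'` at distance `≤ n`, `x ∈ X`: `[l^x, l'] = 1`, `l^x ≤ S^g`;
* `BB M S V F n` : the group generated by the `X`-conjugates of the good lines of chambers at distance `≤ n`;
  `Fr.B_comm`, `Fr.B_sq`, `Fr.X_norm_B`, `Fr.B_le_W`, `Fr.B_le_conj`, `Fr.cent_le_conj`.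
-/

set_option autoImplicit false

namespace Cfsg.Agent.Omega.NOThreeL.Low

open Subgroup Cfsg Cfsg.Agent.ZN Cfsg.Agent.Omega.MinPar Cfsg.Agent.Omega.Frame
open Cfsg.Agent.Omega.FrameNOFF
open Cfsg.Agent.Omega.NoFF.Basic (V conj_conj mem_conj conj_le_iff conj_le_centralizer comm_symm comm_mono
  Z_le_V V_le conj_V_mul Sys Gal conj_Z_le conj_self)
open Cfsg.Agent.Omega.NOne.Flat (EE WW Bad)
open Cfsg.Agent.Omega.NOne.NearFF (c)
open Cfsg.Agent.MinSimple.VModule (zl_le le_normalizer_zl zc_le_zl zc_le zl_le_zc o2_isPGroup le_normalizer_o2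
  mem_zc le_o2 o2_le le_centralizer_zc zc_sq)
open scoped Pointwise

universe u

variable {G : Type u} [Group G]

/-- `g` is at distance at most `n` from a chamber `a ∈ M` with `W ≤ S^a`. -/
def Ch (M S W : Subgroup G) (n : ℕ) (g : G) : Prop :=
  ∃ a, a ∈ M ∧ W ≤ MulAut.conj a • S ∧ Gal (PS S) n a g

/-- The good lines of the chambers at distance `≤ n`. -/
def Gd (M S V F : Subgroup G) (n : ℕ) : Set (Subgroup G) :=
  {l | ∃ j ≤ n, ∃ g, Ch M S (WW V F) j g ∧ ∃ P, IsParS S P ∧ l = MulAut.conj g • zl S P ∧ l ≤ EE V F}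

/-- `B`: generated by the `X`-conjugates of the good lines of the chambers at distance `≤ n`. -/
def BB (M S V F : Subgroup G) (n : ℕ) : Subgroup G :=
  sSup {A | ∃ l ∈ Gd M S V F n, ∃ x ∈ centralizer (F : Set G), A = MulAut.conj x • l}

/-- **The front**: all lines of chambers at distance `< n` are good, `1` is at distance `≤ n`. -/
structure Fr [Finite G] (S : Sylow 2 G) (M V F : Subgroup G) (n : ℕ) : Prop where
  hc : IsCharacteristicTwoType G
  noff : ¬ FF (S : Subgroup G)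
  hyp : NOne.Flat.Hyp V F
  PM : ∀ P, IsParS (S : Subgroup G) P → P ≤ M
  MV : M ≤ normalizer (V : Set G)
  ZV : zc (S : Subgroup G) ≤ V
  least : ∀ j < n, ∀ g, Ch M (S : Subgroup G) (WW V F) j g → ∀ P, IsParS (S : Subgroup G) P →
    MulAut.conj g • zl (S : Subgroup G) P ≤ EE V F
  one : Ch M (S : Subgroup G) (WW V F) n 1

/-! ### chambers -/

section ch

variable {M S W : Subgroup G}

theorem Ch.mul {n : ℕ} {g : G} (h : Ch M S W n g) {P : Subgroup G} (hP : IsParS S P) {p : G} (hp : p ∈ P) :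
    Ch M S W (n + 1) (g * p) := by
  obtain ⟨a, ha, haW, hg⟩ := h
  exact ⟨a, ha, haW, hg.step hP hp⟩

theorem Ch.mem (hM : ∀ P, IsParS S P → P ≤ M) {n : ℕ} {g : G} (h : Ch M S W n g) : g ∈ M := by
  obtain ⟨a, ha, -, hg⟩ := h
  induction hg with
  | zero => exact ha
  | step _ hP hp ih => exact mul_mem (ih ha) (hM _ hP hp)

theorem Ch.zero_le {g : G} (h : Ch M S W 0 g) : W ≤ MulAut.conj g • S := by
  obtain ⟨a, _, haW, hg⟩ := h
  cases hg
  exact haW

/-- the last step of a gallery -/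
theorem Ch.last {n : ℕ} {g : G} (h : Ch M S W (n + 1) g) :
    ∃ P, IsParS S P ∧ ∃ p ∈ P, ∃ g', Ch M S W n g' ∧ g = g' * p := by
  obtain ⟨a, ha, haW, hg⟩ := h
  cases hg with
  | @step _ _ g' p P hg hP hp => exact ⟨P, hP, p, hp, g', ⟨a, ha, haW, hg⟩, rfl⟩

theorem Ch.mono {n k : ℕ} (hnk : n ≤ k) (hne : (PS S).Nonempty) {g : G} (h : Ch M S W n g) :
    Ch M S W k g := by
  obtain ⟨P, hP⟩ := hne
  induction hnk with
  | refl => exact h
  | step _ ih =>
    have := ih.mul hP (one_mem P)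
    rwa [mul_one] at this

end ch

namespace Fr

variable [Finite G] {S : Sylow 2 G} {M V F : Subgroup G} {n : ℕ} (h : Fr S M V F n)
include h

theorem sys : Sys (S : Subgroup G) (zc (S : Subgroup G)) (PS (S : Subgroup G)) :=
  FrameNOFF.sys h.hc S h.noff

/-- `C_{S^g}(V_P^g) ≤ S^{gp}` -/
theorem pass {P : Subgroup G} (hP : IsParS (S : Subgroup G) P) {g p : G} (hp : p ∈ P) {A : Subgroup G}
    (hA : A ≤ MulAut.conj g • (S : Subgroup G))
    (hc : A ≤ centralizer ((MulAut.conj g • zl (S : Subgroup G) P : Subgroup G) : Set G)) :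
    A ≤ MulAut.conj (g * p) • (S : Subgroup G) :=
  h.sys.pass hP hp hA fun _ hp' => comm_mono hc le_rfl (conj_Z_le hp')

theorem zl_le_V {P : Subgroup G} (hP : IsParS (S : Subgroup G) P) : zl (S : Subgroup G) P ≤ V :=
  MinSimple.VModule.zl_le h.ZV ((h.PM P hP).trans h.MV)

theorem conj_V {g : G} (hg : g ∈ M) : MulAut.conj g • V = V := NOne.Flat.conj_eq_of_norm (h.MV hg)

theorem line_le_V {g : G} (hg : g ∈ M) {P : Subgroup G} (hP : IsParS (S : Subgroup G) P) :
    MulAut.conj g • zl (S : Subgroup G) P ≤ V := by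
  rw [← h.conj_V hg]
  exact conj_le_iff.2 (h.zl_le_V hP)

theorem mem_M {j : ℕ} {g : G} (hg : Ch M (S : Subgroup G) (WW V F) j g) : g ∈ M := hg.mem h.PM

omit [Finite G] h in
theorem conj_conj_inv (x : G) (A : Subgroup G) : MulAut.conj x • (MulAut.conj x⁻¹ • A) = A := by
  rw [conj_conj, mul_inv_cancel, map_one, one_smul]

/-- `l^x ≤ S^{g'}`, from (GAL) for smaller distances -/
theorem gal_le {k : ℕ} (ih : ∀ m < k, ∀ i j : ℕ, i + j = m → i ≤ n → j ≤ n → ∀ g g' : G,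
    Ch M (S : Subgroup G) (WW V F) i g → Ch M (S : Subgroup G) (WW V F) j g' →
    ∀ P P' : Subgroup G, IsParS (S : Subgroup G) P → IsParS (S : Subgroup G) P' →
    MulAut.conj g • zl (S : Subgroup G) P ≤ EE V F → MulAut.conj g' • zl (S : Subgroup G) P' ≤ EE V F →
    ∀ x ∈ centralizer (F : Set G),
      MulAut.conj (x * g) • zl (S : Subgroup G) P ≤
        centralizer ((MulAut.conj g' • zl (S : Subgroup G) P' : Subgroup G) : Set G))
    {i : ℕ} (hi : i ≤ n) {g : G} (hg : Ch M (S : Subgroup G) (WW V F) i g)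
    {P : Subgroup G} (hP : IsParS (S : Subgroup G) P) (hl : MulAut.conj g • zl (S : Subgroup G) P ≤ EE V F)
    {x : G} (hx : x ∈ centralizer (F : Set G)) :
    ∀ j : ℕ, i + j ≤ k → j ≤ n → ∀ g' : G, Ch M (S : Subgroup G) (WW V F) j g' →
      MulAut.conj (x * g) • zl (S : Subgroup G) P ≤ MulAut.conj g' • (S : Subgroup G) := by
  intro j
  induction j with
  | zero =>
    intro _ _ g' hg'
    refine le_trans ?_ hg'.zero_le
    rw [← conj_conj]
    exact (conj_le_iff.2 hl).trans (NOne.Flat.Hyp.conjE_le_W hx)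
  | succ j ihj =>
    intro hij hj g' hg'
    obtain ⟨P', hP', p, hp, g'', hg'', rfl⟩ := hg'.last
    have h1 := h.least j (by omega) g'' hg'' P' hP'
    have h2 := ih (i + j) (by omega) i j rfl hi (by omega) g g'' hg hg'' P P' hP hP' hl h1 x hx
    exact h.pass hP' hp (ihj (by omega) (by omega) g'' hg'') h2

/-- **(GAL)** -/
theorem gal_aux (k : ℕ) : ∀ i j : ℕ, i + j = k → i ≤ n → j ≤ n → ∀ g g' : G,
    Ch M (S : Subgroup G) (WW V F) i g → Ch M (S : Subgroup G) (WW V F) j g' →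
    ∀ P P' : Subgroup G, IsParS (S : Subgroup G) P → IsParS (S : Subgroup G) P' →
    MulAut.conj g • zl (S : Subgroup G) P ≤ EE V F → MulAut.conj g' • zl (S : Subgroup G) P' ≤ EE V F →
    ∀ x ∈ centralizer (F : Set G),
      MulAut.conj (x * g) • zl (S : Subgroup G) P ≤
        centralizer ((MulAut.conj g' • zl (S : Subgroup G) P' : Subgroup G) : Set G) := by
  induction k using Nat.strong_induction_on with
  | _ k ih =>
    intro i j hij hi hj g g' hg hg' P P' hP hP' hl hl' x hx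
    have h1 := h.gal_le ih hi hg hP hl hx j (by omega) hj g' hg'
    have h2 := h.gal_le ih hj hg' hP' hl' (inv_mem hx) i (by omega) hi g hg
    refine h.sys.noff' hP hP' (h1.trans (conj_le_iff.2 hP'.le)) ?_
    have h3 := conj_le_iff (g := x).2 h2
    rw [conj_conj, conj_conj, mul_inv_cancel_left] at h3
    exact h3.trans (conj_le_iff.2 hP.le)

/-- **(GAL)**: good lines at distance `≤ n`: `[l^x, l'] = 1` for `x ∈ X`. -/
theorem gal {i j : ℕ} (hi : i ≤ n) (hj : j ≤ n) {g g' : G} (hg : Ch M (S : Subgroup G) (WW V F) i g)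
    (hg' : Ch M (S : Subgroup G) (WW V F) j g') {P P' : Subgroup G} (hP : IsParS (S : Subgroup G) P)
    (hP' : IsParS (S : Subgroup G) P') (hl : MulAut.conj g • zl (S : Subgroup G) P ≤ EE V F)
    (hl' : MulAut.conj g' • zl (S : Subgroup G) P' ≤ EE V F) {x : G} (hx : x ∈ centralizer (F : Set G)) :
    MulAut.conj (x * g) • zl (S : Subgroup G) P ≤
      centralizer ((MulAut.conj g' • zl (S : Subgroup G) P' : Subgroup G) : Set G) :=
  h.gal_aux _ i j rfl hi hj g g' hg hg' P P' hP hP' hl hl' x hx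

/-- **(GAL)**: `l^x ≤ S^{g'}`. -/
theorem gal_le_S {i j : ℕ} (hi : i ≤ n) (hj : j ≤ n) {g g' : G} (hg : Ch M (S : Subgroup G) (WW V F) i g)
    (hg' : Ch M (S : Subgroup G) (WW V F) j g') {P : Subgroup G} (hP : IsParS (S : Subgroup G) P)
    (hl : MulAut.conj g • zl (S : Subgroup G) P ≤ EE V F) {x : G} (hx : x ∈ centralizer (F : Set G)) :
    MulAut.conj (x * g) • zl (S : Subgroup G) P ≤ MulAut.conj g' • (S : Subgroup G) :=
  h.gal_le (k := i + j) (fun m _ => h.gal_aux m) hi hg hP hl hx j le_rfl hj g' hg'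

/-! ### the group `B` -/

omit [Finite G] h in
theorem le_BB {l : Subgroup G} (hl : l ∈ Gd M (S : Subgroup G) V F n) {x : G}
    (hx : x ∈ centralizer (F : Set G)) : MulAut.conj x • l ≤ BB M (S : Subgroup G) V F n :=
  le_sSup ⟨l, hl, x, hx, rfl⟩

omit [Finite G] h in
theorem le_BB' {l : Subgroup G} (hl : l ∈ Gd M (S : Subgroup G) V F n) :
    l ≤ BB M (S : Subgroup G) V F n := by
  have := le_BB hl (one_mem (centralizer (F : Set G)))
  rwa [map_one, one_smul] at this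

omit [Finite G] h in
theorem BB_le {A : Subgroup G} (hA : ∀ l ∈ Gd M (S : Subgroup G) V F n, ∀ x ∈ centralizer (F : Set G),
    MulAut.conj x • l ≤ A) : BB M (S : Subgroup G) V F n ≤ A :=
  sSup_le (by rintro _ ⟨l, hl, x, hx, rfl⟩; exact hA l hl x hx)

omit [Finite G] h in
theorem mem_Gd {j : ℕ} (hj : j ≤ n) {g : G} (hg : Ch M (S : Subgroup G) (WW V F) j g) {P : Subgroup G}
    (hP : IsParS (S : Subgroup G) P) (hl : MulAut.conj g • zl (S : Subgroup G) P ≤ EE V F) :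
    MulAut.conj g • zl (S : Subgroup G) P ∈ Gd M (S : Subgroup G) V F n :=
  ⟨j, hj, g, hg, P, hP, rfl, hl⟩

/-- a line of a chamber at distance `< n` -/
theorem mem_Gd_of_lt {j : ℕ} (hj : j < n) {g : G} (hg : Ch M (S : Subgroup G) (WW V F) j g)
    {P : Subgroup G} (hP : IsParS (S : Subgroup G) P) :
    MulAut.conj g • zl (S : Subgroup G) P ∈ Gd M (S : Subgroup G) V F n :=
  mem_Gd hj.le hg hP (h.least j hj g hg P hP)

omit [Finite G] h in
theorem conj_BB {y : G} (hy : y ∈ centralizer (F : Set G)) :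
    MulAut.conj y • BB M (S : Subgroup G) V F n = BB M (S : Subgroup G) V F n := by
  have key : ∀ y ∈ centralizer (F : Set G),
      BB M (S : Subgroup G) V F n ≤ MulAut.conj y • BB M (S : Subgroup G) V F n := by
    intro y hy
    refine BB_le fun l hl x hx => ?_
    have h1 := le_BB hl (mul_mem (inv_mem hy) hx)
    have h2 := conj_le_iff (g := y).2 h1
    rwa [conj_conj, mul_inv_cancel_left] at h2
  refine le_antisymm ?_ (key y hy)
  have h1 := conj_le_iff (g := y).2 (key y⁻¹ (inv_mem hy))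
  rwa [conj_conj_inv] at h1

omit [Finite G] h in
/-- `X` normalises `B`. -/
theorem X_norm_B : centralizer (F : Set G) ≤ normalizer (BB M (S : Subgroup G) V F n : Set G) := by
  intro y hy
  rw [mem_normalizer_iff]
  intro b
  constructor
  · intro hb
    rw [← conj_BB hy, mem_conj]
    simpa [mul_assoc] using hb
  · intro hb
    rw [← conj_BB hy, mem_conj] at hb
    simpa [mul_assoc] using hb

omit [Finite G] h in
/-- `B ≤ W` -/
theorem B_le_W : BB M (S : Subgroup G) V F n ≤ WW V F := by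
  refine BB_le ?_
  rintro _ ⟨j, -, g, -, P, -, rfl, hl⟩ x hx
  exact (conj_le_iff.2 hl).trans (NOne.Flat.Hyp.conjE_le_W hx)

/-- `B` is abelian. -/
theorem B_comm : BB M (S : Subgroup G) V F n ≤ centralizer (BB M (S : Subgroup G) V F n : Set G) := by
  refine BB_le ?_
  rintro _ ⟨i, hi, g, hg, P, hP, rfl, hl⟩ x hx
  refine comm_symm (BB_le ?_)
  rintro _ ⟨j, hj, g', hg', P', hP', rfl, hl'⟩ x' hx'
  refine comm_symm ?_
  have h1 := h.gal hi hj hg hg' hP hP' hl hl' (mul_mem (inv_mem hx') hx)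
  have h2 := conj_le_centralizer (g := x') h1
  rwa [conj_conj, ← mul_assoc, mul_inv_cancel_left, ← conj_conj] at h2

theorem B_sq : ∀ b ∈ BB M (S : Subgroup G) V F n, b ^ 2 = 1 := by
  let K : Subgroup G :=
    { carrier := {b | b ∈ BB M (S : Subgroup G) V F n ∧ b ^ 2 = 1}
      one_mem' := ⟨one_mem _, one_pow _⟩
      mul_mem' := by
        rintro a b ⟨ha, ha2⟩ ⟨hb, hb2⟩
        refine ⟨mul_mem ha hb, ?_⟩
        have hcm : Commute a b := (mem_centralizer_iff.1 (h.B_comm ha) b hb).symm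
        rw [hcm.mul_pow, ha2, hb2, one_mul]
      inv_mem' := by
        rintro a ⟨ha, ha2⟩
        exact ⟨inv_mem ha, by rw [inv_pow, ha2, inv_one]⟩ }
  have h1 : BB M (S : Subgroup G) V F n ≤ K := by
    refine BB_le fun l hl x hx => ?_
    intro b hb
    refine ⟨le_BB hl hx hb, ?_⟩
    obtain ⟨j, -, g, -, P, -, rfl, hl'⟩ := hl
    rw [mem_conj] at hb
    have h2 := h.hyp.sq _ (hl' hb).1
    have e : b ^ 2 = x * (x⁻¹ * b * x) ^ 2 * x⁻¹ := by rw [pow_two, pow_two]; group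
    rw [e, h2]; group
  exact fun b hb => (h1 hb).2

/-- `B ≤ S^g` for every chamber `g` at distance `≤ n`. -/
theorem B_le_conj {j : ℕ} (hj : j ≤ n) {g : G} (hg : Ch M (S : Subgroup G) (WW V F) j g) :
    BB M (S : Subgroup G) V F n ≤ MulAut.conj g • (S : Subgroup G) := by
  refine BB_le ?_
  rintro _ ⟨i, hi, g', hg', P, hP, rfl, hl⟩ x hx
  rw [conj_conj]
  exact h.gal_le_S hi hj hg' hg hP hl hx

/-- `B ≤ S` -/
theorem B_le_S : BB M (S : Subgroup G) V F n ≤ (S : Subgroup G) := by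
  have := h.B_le_conj le_rfl h.one
  rwa [map_one, one_smul] at this

/-- A subgroup of `W` which centralises `B` is contained in `S^g` for every chamber `g` at distance `≤ n`. -/
theorem le_conj_of_cent {A : Subgroup G} (hA : A ≤ WW V F)
    (hAB : A ≤ centralizer (BB M (S : Subgroup G) V F n : Set G)) :
    ∀ j ≤ n, ∀ g : G, Ch M (S : Subgroup G) (WW V F) j g → A ≤ MulAut.conj g • (S : Subgroup G) := by
  intro j
  induction j with
  | zero =>
    intro _ g hg
    exact hA.trans hg.zero_le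
  | succ j ih =>
    intro hj g hg
    obtain ⟨P, hP, p, hp, g', hg', rfl⟩ := hg.last
    refine h.pass hP hp (ih (by omega) g' hg') ?_
    exact comm_mono hAB le_rfl (le_BB' (h.mem_Gd_of_lt (by omega) hg' hP))

/-- `C_W(B) ≤ S` -/
theorem cent_le_S : WW V F ⊓ centralizer (BB M (S : Subgroup G) V F n : Set G) ≤ (S : Subgroup G) := by
  have := h.le_conj_of_cent inf_le_left inf_le_right n le_rfl 1 h.one
  rwa [map_one, one_smul] at this

/-! ### (B1) -/

theorem B_norm_V : BB M (S : Subgroup G) V F n ≤ normalizer (V : Set G) := B_le_W.trans h.hyp.W_norm_V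

theorem V_norm_B : V ≤ normalizer (BB M (S : Subgroup G) V F n : Set G) := h.hyp.V_le_X.trans X_norm_B

/-- **(B1)** `[V, B] ≤ V ∩ B` -/
theorem comm_VB {v b : G} (hv : v ∈ V) (hb : b ∈ BB M (S : Subgroup G) V F n) :
    c v b ∈ V ⊓ BB M (S : Subgroup G) V F n := by
  refine ⟨h.hyp.c_memV hv (B_le_W hb), ?_⟩
  have h1 := (mem_normalizer_iff.1 (h.V_norm_B hv) b).1 hb
  have e : c v b = v * b * v⁻¹ * b⁻¹ := NOne.NearFF.c_def v b
  rw [e]
  exact (BB M (S : Subgroup G) V F n).mul_mem h1 ((BB M (S : Subgroup G) V F n).inv_mem hb)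

/-- the adjacent chamber at distance `n - 1` -/
theorem exists_adj {k : ℕ} (hn : n = k + 1) : ∃ R, IsParS (S : Subgroup G) R ∧ ∃ m ∈ R,
    Ch M (S : Subgroup G) (WW V F) k m := by
  have h1 := h.one
  rw [hn] at h1
  obtain ⟨R, hR, p, hp, g, hg, e⟩ := h1.last
  have e2 : g = p⁻¹ := eq_inv_of_mul_eq_one_left e.symm
  refine ⟨R, hR, p⁻¹, R.inv_mem hp, ?_⟩
  rwa [← e2]

end Fr

end Cfsg.Agent.Omega.NOThreeL.Low

end

section


/-!
# THEOREM LOW (#19191, helper597), the setting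

`S` a Sylow 2-subgroup, `M₀ = YS S = ⟨P*(S)⟩`, NO-3L with `C_Z(P) = 1` for all `P ∈ P*(S)`, not (A).

* `LFr S V F n` : the front (`Fr`) with `M = M₀`, `Ctx`, `Full`, `DataZ`, not (A);
* `cent_le_norm`, `conj_eq_of_inf` : (TI);
* `conj_WP_of_norm` : `N_G(Z)` normalises `WP S`;
* `LFr.splus` : **(S+)** a line `l` on the point `y = Z^g`, a point `y₀` of `l` with `y₀ ∩ F ≠ 1`:
  `W_y ∩ X ≤ O₂(X)`;
* `LFr.good_of_le_one` : all lines of chambers at distance `≤ 1` are good;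
* `LFr.spp` : **(S++)** `U = V_P ≰ E`: no point of a line on a point of `U` meets `F`;
* `exists_fr` : `V* = ⟨Z^M₀⟩ ≰ O₂(C_G(Z))` gives `F`, `n`, `P` with `LFr S V F n` and `V_P ≰ E`.
-/

set_option autoImplicit false

namespace Cfsg.Agent.Omega.NOThreeL.Low

open Subgroup Cfsg
open Cfsg.Agent.ZN hiding mem_zc le_o2 le_normalizer_o2 zl_le
open Cfsg.Agent.Omega.MinPar Cfsg.Agent.Omega.Frame
open Cfsg.Agent.Omega.FrameNOFF
open Cfsg.Agent.Omega.NoFF.Basic (V conj_conj mem_conj conj_le_iff conj_le_centralizer comm_symm comm_mono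
  Z_le_V V_le conj_V_mul Sys Gal conj_Z_le conj_self)
open Cfsg.Agent.Omega.NOne.Flat (EE WW Bad)
open Cfsg.Agent.Omega.NOne.NearFF (c)
open Cfsg.Agent.Omega.NOThreeL.Basic
open Cfsg.Agent.Omega.NOThreeL.Pair (conj_eq_of_mem conj_le_normalizer)
open Cfsg.Agent.Omega.NOThreeL.Star (YS)
open Cfsg.Agent.Omega.NO3b (Wc.Root Wc.VL Wc.ML)
open Cfsg.Agent.Omega.Node.NO3L
open Cfsg.Agent.ZN.ChoiceSit (Syl exists_syl syl_conj)
open Cfsg.Agent.ZN.ChoiceBase (isPGroup_cj cj)
open Cfsg.Agent.MinSimple.VModule (zc_le_zl zc_le zl_le_zc o2_isPGroup le_normalizer_o2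
  mem_zc le_o2 o2_le le_centralizer_zc zc_sq normalizer_le_normalizer_zc)
open scoped Pointwise

universe u

variable {G : Type u} [Group G] [Finite G]

/-! ### (TI) -/

section ti

variable {S : Sylow 2 G}

/-- `C_G(z) ≤ N_G(Z)` for `1 ≠ z ∈ Z` -/
theorem cent_le_norm (D : DataZ (S : Subgroup G)) {z : G} (hz : z ∈ zc (S : Subgroup G)) (hz1 : z ≠ 1) :
    centralizer ({z} : Set G) ≤ normalizer (zc (S : Subgroup G) : Set G) := by
  refine RTools.le_normalizer S hz hz1 fun P hP hPz => hz1 ?_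
  have h1 : z ∈ zc (S : Subgroup G) ⊓ centralizer (P : Set G) :=
    mem_inf.2 ⟨hz, mem_centralizer_iff.2 fun p hp => (mem_centralizer_iff.1 (hPz hp) z rfl).symm⟩
  rw [D.cz P hP, mem_bot] at h1
  exact h1

/-- TI -/
theorem conj_eq_of_inf (D : DataZ (S : Subgroup G)) {g h : G}
    (hne : MulAut.conj g • zc (S : Subgroup G) ⊓ MulAut.conj h • zc (S : Subgroup G) ≠ ⊥) :
    MulAut.conj g • zc (S : Subgroup G) = MulAut.conj h • zc (S : Subgroup G) := by
  have h1 := RTools.ti_of_cz S D.cz (h⁻¹ * g) (fun h0 => hne (by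
    have h2 := congrArg (fun A : Subgroup G => MulAut.conj h • A) h0
    simp only [Subgroup.smul_inf, conj_conj, mul_inv_cancel_left, Subgroup.smul_bot] at h2
    rwa [inf_comm] at h2))
  have h2 := congrArg (fun A : Subgroup G => MulAut.conj h • A) h1
  simpa only [conj_conj, mul_inv_cancel_left] using h2

omit [Finite G] in
theorem mem_norm_CZ {x : G} (hx : x ∈ normalizer (zc (S : Subgroup G) : Set G)) :
    MulAut.conj x • CZ (S : Subgroup G) = CZ (S : Subgroup G) := by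
  rw [NOne.Flat.conj_centralizer, NOne.Flat.conj_eq_of_norm hx]

/-- `N_G(Z)` normalises `WP S`. -/
theorem conj_WP_of_norm {x : G} (hx : x ∈ normalizer (zc (S : Subgroup G) : Set G)) :
    MulAut.conj x • WP (S : Subgroup G) = WP (S : Subgroup G) := by
  have hSC : (S : Subgroup G) ≤ CZ (S : Subgroup G) := le_CZ S
  have h1 : Syl (S : Subgroup G) (CZ (S : Subgroup G)) := MinSimple.EmptyTI.syl_of_le hSC
  have h2 : Syl (cj x (S : Subgroup G)) (CZ (S : Subgroup G)) := by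
    have h3 : Syl (cj x (S : Subgroup G)) (MulAut.conj x • CZ (S : Subgroup G)) := by
      have h4 : cj x (S : Subgroup G) = ((x • S : Sylow 2 G) : Subgroup G) := rfl
      rw [h4]
      refine MinSimple.EmptyTI.syl_of_le (S := x • S) ?_
      exact conj_le_iff.2 hSC
    rwa [mem_norm_CZ hx] at h3
  obtain ⟨d, hd, h3⟩ := syl_conj h1 h2
  have h4 : d⁻¹ * x ∈ normalizer ((S : Subgroup G) : Set G) := by
    have h5 : MulAut.conj (d⁻¹ * x) • (S : Subgroup G) = S := by
      rw [← conj_conj]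
      have h6 : MulAut.conj x • (S : Subgroup G) = cj d (S : Subgroup G) := h3.symm
      rw [h6]
      exact ZN.ChoiceBase.cj_inv_cj d _
    rw [mem_normalizer_iff]
    intro y
    constructor
    · intro hy
      rw [← h5, mem_conj]
      simpa [mul_assoc] using hy
    · intro hy
      rw [← h5, mem_conj] at hy
      simpa [mul_assoc] using hy
  have e : x = d * (d⁻¹ * x) := by group
  rw [e, ← conj_conj, RTools.conj_WP_of_normalizer S h4, conj_WP hd]

/-- `WP` of a point depends only on the point. -/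
theorem conj_WP_congr {g h : G} (e : MulAut.conj g • zc (S : Subgroup G) = MulAut.conj h • zc (S : Subgroup G)) :
    MulAut.conj g • WP (S : Subgroup G) = MulAut.conj h • WP (S : Subgroup G) := by
  have h1 : h⁻¹ * g ∈ normalizer (zc (S : Subgroup G) : Set G) := by
    have h2 := congrArg (fun A : Subgroup G => MulAut.conj h⁻¹ • A) e
    simp only [conj_conj, inv_mul_cancel, map_one, one_smul] at h2
    rw [mem_normalizer_iff]
    intro y
    constructor
    · intro hy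
      rw [← h2, mem_conj]
      simpa [mul_assoc] using hy
    · intro hy
      rw [← h2, mem_conj] at hy
      simpa [mul_assoc] using hy
  have h2 := congrArg (fun A : Subgroup G => MulAut.conj h • A) (conj_WP_of_norm h1)
  simpa only [conj_conj, mul_inv_cancel_left] using h2

end ti

/-- **The setting of THEOREM LOW.** -/
structure LFr (S : Sylow 2 G) (V F : Subgroup G) (n : ℕ) : Prop extends
    Fr S (YS (S : Subgroup G)) V F n where
  ctx : Ctx G
  full : Full (S : Subgroup G)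
  dz : DataZ (S : Subgroup G)
  notA : ¬ CaseA (S : Subgroup G)
  root : Wc.Root S (YS (S : Subgroup G))
  eq : V = Wc.VL (S : Subgroup G) (YS (S : Subgroup G))

/-- **(S+)**, without the front: `F` arbitrary. -/
theorem splus {S : Sylow 2 G} (D : DataZ (S : Subgroup G)) (hA : ¬ CaseA (S : Subgroup G)) {F : Subgroup G}
    {P : Subgroup G} (hP : IsParS (S : Subgroup G) P) {g p : G} (hp : p ∈ P)
    (hne : MulAut.conj (g * p) • zc (S : Subgroup G) ⊓ F ≠ ⊥) :
    MulAut.conj g • WP (S : Subgroup G) ⊓ centralizer (F : Set G) ≤ o2 (centralizer (F : Set G)) := by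
  obtain ⟨⟨d, hd⟩, hd0⟩ := Subgroup.ne_bot_iff_exists_ne_one.1 hne
  have hd1 : d ≠ 1 := fun h0 => hd0 (Subtype.ext h0)
  obtain ⟨hdz, hdF⟩ := mem_inf.1 hd
  set y : G := g * p with hy
  have hz : y⁻¹ * d * y ∈ zc (S : Subgroup G) := mem_conj.1 hdz
  have hz1 : y⁻¹ * d * y ≠ 1 := fun h0 => hd1 (by
    have h1 := congrArg (fun t => y * t * y⁻¹) h0
    simpa [mul_assoc] using h1)
  -- `X` normalises the point `y₀`
  have hX : ∀ x ∈ centralizer (F : Set G), y⁻¹ * x * y ∈ normalizer (zc (S : Subgroup G) : Set G) := by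
    intro x hx
    refine cent_le_norm D hz hz1 ?_
    rw [mem_centralizer_iff]
    rintro _ rfl
    have h1 := mem_centralizer_iff.1 hx d hdF
    have e1 : y⁻¹ * d * y * (y⁻¹ * x * y) = y⁻¹ * (d * x) * y := by group
    have e2 : y⁻¹ * x * y * (y⁻¹ * d * y) = y⁻¹ * (x * d) * y := by group
    rw [e1, e2, h1]
  set Q : Subgroup G := MulAut.conj y • o2 (CZ (S : Subgroup G)) with hQ
  have hQ2 : IsPGroup 2 Q := isPGroup_cj y (o2_isPGroup _)
  have hXQ : ∀ x ∈ centralizer (F : Set G), MulAut.conj x • Q = Q := by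
    intro x hx
    have h1 : MulAut.conj (y⁻¹ * x * y) • o2 (CZ (S : Subgroup G)) = o2 (CZ (S : Subgroup G)) := by
      rw [NOne.Flat.o2_conj, mem_norm_CZ (hX x hx)]
    have h2 := congrArg (fun A : Subgroup G => MulAut.conj y • A) h1
    simp only [conj_conj] at h2
    rw [hQ, conj_conj, ← h2]
    congr 1
    group
  have hW : MulAut.conj g • WP (S : Subgroup G) ≤ Q := by
    have hL := D.loc P hP
    have h1 := NotA.WP_le D.toData hA hL
    have h2 : MulAut.conj p • o2 (P ⊔ CZ (S : Subgroup G)) = o2 (P ⊔ CZ (S : Subgroup G)) :=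
      conj_eq_of_mem (le_normalizer_o2 _ (mem_sup_left hp))
    calc MulAut.conj g • WP (S : Subgroup G) ≤ MulAut.conj g • o2 (P ⊔ CZ (S : Subgroup G)) :=
          conj_le_iff.2 h1
      _ = MulAut.conj y • o2 (P ⊔ CZ (S : Subgroup G)) := by
          rw [hy, ← conj_conj, h2]
      _ ≤ Q := conj_le_iff.2 (hL.o2_le S)
  refine (inf_le_inf_right _ hW).trans (le_o2 inf_le_right (hQ2.to_le inf_le_left) ?_)
  intro x hx
  rw [mem_normalizer_iff]
  have key : ∀ x ∈ centralizer (F : Set G), ∀ b ∈ Q ⊓ centralizer (F : Set G),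
      x * b * x⁻¹ ∈ Q ⊓ centralizer (F : Set G) := by
    intro x hx b hb
    refine ⟨?_, (centralizer (F : Set G)).mul_mem ((centralizer (F : Set G)).mul_mem hx hb.2)
      ((centralizer (F : Set G)).inv_mem hx)⟩
    change x * b * x⁻¹ ∈ Q
    rw [← hXQ x hx, mem_conj]
    have : x⁻¹ * (x * b * x⁻¹) * x = b := by group
    rw [this]
    exact hb.1
  intro b
  refine ⟨key x hx b, fun hb => ?_⟩
  have h1 := key x⁻¹ (inv_mem hx) _ hb
  have e : x⁻¹ * (x * b * x⁻¹) * x⁻¹⁻¹ = b := by group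
  rwa [e] at h1

/-- **(S++)**, for any frame `V`, `F`. -/
theorem spp {S : Sylow 2 G} (D : DataZ (S : Subgroup G)) (hA : ¬ CaseA (S : Subgroup G)) {V F : Subgroup G}
    (hyp : NOne.Flat.Hyp V F) {P : Subgroup G} (hP : IsParS (S : Subgroup G) P)
    (hUV : zl (S : Subgroup G) P ≤ V) (hU : ¬ zl (S : Subgroup G) P ≤ EE V F)
    {p g : G} (hp : p ∈ P) (hg : MulAut.conj g • zc (S : Subgroup G) = MulAut.conj p • zc (S : Subgroup G))
    {P' : Subgroup G} (hP' : IsParS (S : Subgroup G) P') {p' : G} (hp' : p' ∈ P') :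
    MulAut.conj (g * p') • zc (S : Subgroup G) ⊓ F = ⊥ := by
  by_contra hne
  have h1 := splus D hA hP' hp' hne
  rw [conj_WP_congr hg] at h1
  apply hU
  refine le_inf hUV ?_
  refine (le_inf ?_ (hUV.trans hyp.V_le_X)).trans h1
  have h2 := conj_le_iff (g := p).2 (zl_le_WP hP)
  rwa [zl_conj_eq hp] at h2

namespace LFr

variable {S : Sylow 2 G} {V F : Subgroup G} {n : ℕ} (h : LFr S V F n)
include h

/-- **(S+)** -/
theorem splus {P : Subgroup G} (hP : IsParS (S : Subgroup G) P) {g p : G} (hp : p ∈ P)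
    (hne : MulAut.conj (g * p) • zc (S : Subgroup G) ⊓ F ≠ ⊥) :
    MulAut.conj g • WP (S : Subgroup G) ⊓ centralizer (F : Set G) ≤ o2 (centralizer (F : Set G)) :=
  Low.splus h.dz h.notA hP hp hne

/-- **(S++)**: `U = V_P ≰ E`: no point `Z^{gp'}` of a line `V_{P'}^g` on a point `Z^g = Z^p` of `U` meets `F`. -/
theorem spp {P : Subgroup G} (hP : IsParS (S : Subgroup G) P) (hU : ¬ zl (S : Subgroup G) P ≤ EE V F)
    {p g : G} (hp : p ∈ P) (hg : MulAut.conj g • zc (S : Subgroup G) = MulAut.conj p • zc (S : Subgroup G))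
    {P' : Subgroup G} (hP' : IsParS (S : Subgroup G) P') {p' : G} (hp' : p' ∈ P') :
    MulAut.conj (g * p') • zc (S : Subgroup G) ⊓ F = ⊥ :=
  Low.spp h.dz h.notA h.hyp hP (h.zl_le_V hP) hU hp hg hP' hp'

/-- (S++) for the points of `U` itself. -/
theorem point_inf {P : Subgroup G} (hP : IsParS (S : Subgroup G) P) (hU : ¬ zl (S : Subgroup G) P ≤ EE V F)
    {p : G} (hp : p ∈ P) : MulAut.conj p • zc (S : Subgroup G) ⊓ F = ⊥ := by
  have := h.spp hP hU hp rfl hP (one_mem P)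
  rwa [mul_one] at this

/-- `Z ∩ F = 1` -/
theorem Z_inf {P : Subgroup G} (hP : IsParS (S : Subgroup G) P) (hU : ¬ zl (S : Subgroup G) P ≤ EE V F) :
    zc (S : Subgroup G) ⊓ F = ⊥ := by
  have := h.point_inf hP hU (one_mem P)
  rwa [map_one, one_smul] at this

end LFr

/-! ### Existence -/

theorem zc_ne_bot {S : Sylow 2 G} (hG : Ctx G) : zc (S : Subgroup G) ≠ ⊥ :=
  MinSimple.Basic.zc_ne_bot S.isPGroup' (hG.sylow_ne_bot S)

/-- All lines of chambers at distance `≤ 1` are good. -/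
theorem good_of_le_one {S : Sylow 2 G} (hG : Ctx G) (D : DataZ (S : Subgroup G))
    (hA : ¬ CaseA (S : Subgroup G)) {M V F : Subgroup G} (hyp : NOne.Flat.Hyp V F)
    (PM : ∀ P, IsParS (S : Subgroup G) P → P ≤ M) (MV : M ≤ normalizer (V : Set G))
    (ZV : zc (S : Subgroup G) ≤ V) {g : G} (hg : Ch M (S : Subgroup G) (WW V F) 1 g)
    {P : Subgroup G} (hP : IsParS (S : Subgroup G) P) :
    MulAut.conj g • zl (S : Subgroup G) P ≤ EE V F := by
  have hgM := hg.mem PM
  obtain ⟨P', hP', p, hp, g', hg', rfl⟩ := hg.last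
  have hg'M := hg'.mem PM
  have h1 : MulAut.conj g' • zc (S : Subgroup G) ≤ F := by
    rw [← hyp.cent_VW]
    refine le_inf ?_ ?_
    · have h2 := conj_le_iff (g := g').2 ZV
      rwa [NOne.Flat.conj_eq_of_norm (MV hg'M)] at h2
    · refine comm_symm (hg'.zero_le.trans ?_)
      refine conj_le_centralizer ?_
      exact fun s hs => mem_centralizer_iff.mpr fun z hz => ((mem_zc.mp hz).2.1 s hs).symm
  have h2 := splus (F := F) D hA hP' (g := g' * p) (P'.inv_mem hp) (by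
    rw [mul_inv_cancel_right, inf_eq_left.2 h1]
    intro h0
    apply zc_ne_bot (S := S) hG
    have h3 := congrArg (fun A : Subgroup G => MulAut.conj g'⁻¹ • A) h0
    simpa only [conj_conj, inv_mul_cancel, map_one, one_smul, Subgroup.smul_bot] using h3)
  have hV : MulAut.conj (g' * p) • zl (S : Subgroup G) P ≤ V := by
    have h3 := conj_le_iff (g := g' * p).2
      (MinSimple.VModule.zl_le ZV ((PM P hP).trans MV) : zl (S : Subgroup G) P ≤ V)
    rwa [NOne.Flat.conj_eq_of_norm (MV hgM)] at h3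
  exact le_inf hV ((le_inf (conj_le_iff.2 (zl_le_WP hP)) (hV.trans hyp.V_le_X)).trans h2)

/-- **PRINCIPLE**: a maximal bad `F` with `W_F ≤ S`, `[V_L, W_F] ≠ 1`. -/
theorem exists_max_bad {S : Sylow 2 G} {L : Subgroup G} (h : Wc.Root S L) (hc : IsCharacteristicTwoType G)
    {F₀ : Subgroup G} (hF₀ : Bad (Wc.VL (S : Subgroup G) L) F₀) :
    ∃ F, NOne.Flat.Hyp (Wc.VL (S : Subgroup G) L) F ∧ WW (Wc.VL (S : Subgroup G) L) F ≤ (S : Subgroup G) ∧
      ¬ WW (Wc.VL (S : Subgroup G) L) F ≤ centralizer (zl (S : Subgroup G) L : Set G) := by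
  obtain ⟨F, -, hF, hmax⟩ := NOne.Flat.exists_max hF₀
  have hfl := h.flatHyp hc hF hmax
  have hWM : WW (Wc.VL (S : Subgroup G) L) F ≤ Wc.ML (S : Subgroup G) L :=
    NOne.Flat.Hyp.W_le_R.trans (h.o2_cent_le hF.le)
  have hW2 : IsPGroup 2 (WW (Wc.VL (S : Subgroup G) L) F : Subgroup G) :=
    (o2_isPGroup _).to_le NOne.Flat.Hyp.W_le_R
  obtain ⟨m, hm, hmW⟩ := h.exists_conj_le hW2 hWM
  have hmN := NO3b.Wc.ML_le_norm_V (S : Subgroup G) L hm
  obtain ⟨X, ⟨F', hF', hmax', rfl⟩, hXS, hXL⟩ := h.principle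
    (F := NO3b.Union.badFam (Wc.VL (S : Subgroup G) L))
    (fun A hA n hn => NO3b.Union.badFam_cj (NO3b.Wc.ML_le_norm_V (S : Subgroup G) L hn) hA)
    (NO3b.Union.badFam_cj hmN ⟨F, hF, hmax, rfl⟩) hmW (fun h1 => NO3b.Union.not_WW_le hfl (by
        rw [ZN.ChoiceBase.cj_le_iff, ZN.ChoiceBase.cj_centralizer,
          ZN.ChoiceBase.cj_eq_of_mem_normalizer (inv_mem hmN)] at h1
        exact h1))
  exact ⟨F', h.flatHyp hc hF' hmax', hXS, hXL⟩

omit [Finite G] in
/-- The elements of `⟨P*(S)⟩` are reached by galleries. -/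
theorem exists_gal {S : Subgroup G} {y : G} (hy : y ∈ YS S) : ∃ k, Gal (PS S) k 1 y := by
  have hy' : y ∈ ⨆ P : {P : Subgroup G // IsParS S P}, (P : Subgroup G) := by
    unfold NOThreeL.Star.YS at hy
    rwa [sSup_eq_iSup'] at hy
  refine Subgroup.iSup_induction (S := fun P : {P : Subgroup G // IsParS S P} => (P : Subgroup G))
    (C := fun y => ∃ k, Gal (PS S) k 1 y) hy' ?_ ?_ ?_
  · rintro ⟨P, hP⟩ p hp
    have := Gal.one (F := PS S) hP (g := 1) hp
    rw [one_mul] at this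
    exact ⟨1, this⟩
  · exact ⟨0, Gal.zero _⟩
  · rintro x y ⟨k, hk⟩ ⟨l, hl⟩
    have h1 := hl.mul_left x
    rw [mul_one] at h1
    exact ⟨k + l, hk.trans h1⟩

/-- **The front exists**, for any frame `V`, `F` with `W_F ≤ S`, `V* ≰ E`. -/
theorem exists_fr_of {S : Sylow 2 G} (hG : Ctx G) (hF : Full (S : Subgroup G)) (D : DataZ (S : Subgroup G))
    (hA : ¬ CaseA (S : Subgroup G)) {V F : Subgroup G} (hyp : NOne.Flat.Hyp V F)
    (hMV : YS (S : Subgroup G) ≤ normalizer (V : Set G)) (hZV : zc (S : Subgroup G) ≤ V)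
    (hWS : WW V F ≤ (S : Subgroup G)) (hnE : ¬ zl (S : Subgroup G) (YS (S : Subgroup G)) ≤ EE V F) :
    ∃ (F' : Subgroup G) (n : ℕ) (P : Subgroup G), Fr S (YS (S : Subgroup G)) V F' n ∧ 2 ≤ n ∧
      IsParS (S : Subgroup G) P ∧ ¬ zl (S : Subgroup G) P ≤ EE V F' := by
  have hPM : ∀ P, IsParS (S : Subgroup G) P → P ≤ YS (S : Subgroup G) := fun P hP => NOThreeL.Star.le_YS hP
  obtain ⟨P₀, hP₀⟩ := hG.exists_isParS hF
  -- some chamber has a bad line
  have hex : ∃ n : ℕ, ∃ g, Ch (YS (S : Subgroup G)) (S : Subgroup G) (WW V F) n g ∧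
      ∃ P, IsParS (S : Subgroup G) P ∧ ¬ MulAut.conj g • zl (S : Subgroup G) P ≤ EE V F := by
    by_contra hcon
    push Not at hcon
    apply hnE
    refine iSup_le fun y => ?_
    obtain ⟨k, hk⟩ := exists_gal y.2
    have h1 := hcon k y ⟨1, one_mem _, by rwa [map_one, one_smul], hk⟩ P₀ hP₀
    exact (conj_le_iff.2 (zc_le_zl (S : Subgroup G) P₀)).trans h1
  classical
  obtain ⟨g, hg, P, hP, hPE⟩ := Nat.find_spec hex
  have hmin := fun j (hj : j < Nat.find hex) => Nat.find_min hex hj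
  set n := Nat.find hex with hn
  have hgM := hg.mem hPM
  have hgV := hMV hgM
  have hgV' : g⁻¹ ∈ normalizer (V : Set G) := inv_mem hgV
  have eW : WW V (MulAut.conj g⁻¹ • F) = MulAut.conj g⁻¹ • WW V F := (NOne.Flat.WW_conj hgV').symm
  have eE : EE V (MulAut.conj g⁻¹ • F) = MulAut.conj g⁻¹ • EE V F := (NOne.Flat.EE_conj hgV').symm
  -- chambers for `F^{g⁻¹}`
  have hCh : ∀ j x, Ch (YS (S : Subgroup G)) (S : Subgroup G) (WW V (MulAut.conj g⁻¹ • F)) j x →
      Ch (YS (S : Subgroup G)) (S : Subgroup G) (WW V F) j (g * x) := by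
    rintro j x ⟨a, ha, haW, hax⟩
    refine ⟨g * a, mul_mem hgM ha, ?_, hax.mul_left g⟩
    rw [eW] at haW
    have h1 := conj_le_iff (g := g).2 haW
    rwa [conj_conj, mul_inv_cancel, map_one, one_smul, conj_conj] at h1
  have hCh' : Ch (YS (S : Subgroup G)) (S : Subgroup G) (WW V (MulAut.conj g⁻¹ • F)) n 1 := by
    obtain ⟨a, ha, haW, hag⟩ := hg
    refine ⟨g⁻¹ * a, mul_mem (inv_mem hgM) ha, ?_, ?_⟩
    · rw [eW, ← conj_conj]
      exact conj_le_iff.2 haW
    · have := hag.mul_left g⁻¹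
      rwa [inv_mul_cancel] at this
  have hbad : ¬ zl (S : Subgroup G) P ≤ EE V (MulAut.conj g⁻¹ • F) := by
    intro h1
    apply hPE
    rw [eE] at h1
    have h2 := conj_le_iff (g := g).2 h1
    rwa [conj_conj, mul_inv_cancel, map_one, one_smul] at h2
  have hyp' := hyp.conj hgV'
  refine ⟨MulAut.conj g⁻¹ • F, n, P, ⟨hG.char2, D.noff, hyp', hPM, hMV, hZV, ?_, hCh'⟩, ?_, hP, hbad⟩
  · intro j hj x hx Q hQ
    by_contra hcon
    refine hmin j hj ⟨g * x, hCh j x hx, Q, hQ, fun h1 => hcon ?_⟩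
    rw [eE]
    have h2 := conj_le_iff (g := g⁻¹).2 h1
    rwa [conj_conj, inv_mul_cancel_left] at h2
  · by_contra hlt
    have h1 := hCh'.mono (k := 1) (by omega) ⟨P₀, hP₀⟩
    have h2 := good_of_le_one hG D hA hyp' hPM hMV hZV h1 hP
    rw [map_one, one_smul] at h2
    exact hbad h2

/-- The root of the w.c. frame for `M₀ = ⟨P*(S)⟩` (THEOREM NF). -/
theorem root_YS {S : Sylow 2 G} (hG : Ctx G) (hF : Full (S : Subgroup G)) (D : DataZ (S : Subgroup G)) :
    Wc.Root S (YS (S : Subgroup G)) :=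
  MergeNF.root_of_isLoc hG.char2 (NOThreeL.Star.isLoc hG.char2 D.noff (NOThreeL.Star.S_le_YS hG hF)
    (hG.sylow_ne_bot S)) (NOThreeL.Star.cs_le_o2 hG.char2 (NOThreeL.Star.S_le_YS hG hF)) (NF.notFF hG hF D)

/-- **The frame exists**: a maximal bad `F` of `V = VL S M₀` with `W_F ≤ S`, `V* ≰ E`. -/
theorem exists_frame {S : Sylow 2 G} (hG : Ctx G) (hF : Full (S : Subgroup G)) (D : DataZ (S : Subgroup G))
    (hlow : ¬ zl (S : Subgroup G) (YS (S : Subgroup G)) ≤ o2 (CZ (S : Subgroup G))) :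
    ∃ F : Subgroup G, NOne.Flat.Hyp (Wc.VL (S : Subgroup G) (YS (S : Subgroup G))) F ∧
      WW (Wc.VL (S : Subgroup G) (YS (S : Subgroup G))) F ≤ (S : Subgroup G) ∧
      ¬ zl (S : Subgroup G) (YS (S : Subgroup G)) ≤
        EE (Wc.VL (S : Subgroup G) (YS (S : Subgroup G))) F := by
  have root := root_YS hG hF D
  obtain ⟨F, hyp, hWS, hWL⟩ := exists_max_bad root hG.char2 (F₀ := zc (S : Subgroup G))
    ⟨zc_ne_bot hG, NO3b.Wc.Root.zc_le_V, fun h1 => hlow (root.zl_le_V.trans h1)⟩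
  exact ⟨F, hyp, hWS, fun h1 =>
    hWL (hyp.cent_of_le_EE (Spread.Plug.stmtOff G _ _ hyp) (root.not_offM hWS) h1).1⟩

/-- **The front exists.** -/
theorem exists_fr {S : Sylow 2 G} (hG : Ctx G) (hF : Full (S : Subgroup G)) (D : DataZ (S : Subgroup G))
    (hA : ¬ CaseA (S : Subgroup G))
    (hlow : ¬ zl (S : Subgroup G) (YS (S : Subgroup G)) ≤ o2 (CZ (S : Subgroup G))) :
    ∃ (F : Subgroup G) (n : ℕ) (P : Subgroup G),
      LFr S (Wc.VL (S : Subgroup G) (YS (S : Subgroup G))) F n ∧ 2 ≤ n ∧ IsParS (S : Subgroup G) P ∧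
        ¬ zl (S : Subgroup G) P ≤ EE (Wc.VL (S : Subgroup G) (YS (S : Subgroup G))) F := by
  obtain ⟨F, hyp, hWS, hnE⟩ := exists_frame hG hF D hlow
  have root := root_YS hG hF D
  obtain ⟨F', n, P, h1, h2, h3, h4⟩ := exists_fr_of hG hF D hA hyp
    (root.L_le.trans (NO3b.Wc.ML_le_norm_V _ _)) NO3b.Wc.Root.zc_le_V hWS hnE
  exact ⟨F', n, P, ⟨h1, hG, hF, D, hA, root, rfl⟩, h2, h3, h4⟩

end Cfsg.Agent.Omega.NOThreeL.Low

end

section


/-!
# THEOREM LOW (#19191): the parts P1, P2, P3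

* `p1 : StP1`, `p2 : StP2`, `p3 : StP3`.
-/

set_option autoImplicit false

namespace Cfsg.Agent.Omega.NOThreeL.Low

open Subgroup Cfsg
open Cfsg.Agent.ZN hiding mem_zc le_o2 le_normalizer_o2 zl_le
open Cfsg.Agent.Omega.MinPar Cfsg.Agent.Omega.Frame
open Cfsg.Agent.Omega.FrameNOFF
open Cfsg.Agent.Omega.NoFF.Basic (conj_conj mem_conj conj_le_iff conj_le_centralizer comm_symm comm_mono)
open Cfsg.Agent.Omega.NOne.Flat (EE WW Hyp)
open Cfsg.Agent.Omega.NOThreeL.Basic (DataZ CaseA WP zl_le_WP)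
open Cfsg.Agent.Omega.NOThreeL.Star (YS)
open Cfsg.Agent.Omega.NOThreeL.Merge (MZ)
open Cfsg.Agent.MinSimple.VModule (mem_zc le_centralizer_zc)
open scoped Pointwise

universe u

/-- **P1** -/
theorem p1 : StP1.{u} := by
  intro G _ _ hG S hF D hlow
  obtain ⟨F, hyp, hWS, hnE⟩ := exists_frame hG hF D hlow
  have root := root_YS hG hF D
  refine ⟨_, F, hyp, root.V_le_S, root.L_le.trans (NO3b.Wc.ML_le_norm_V _ _), root.zl_le_V, hWS, ?_, hnE⟩
  rw [← hyp.cent_VW]
  refine le_inf NO3b.Wc.Root.zc_le_V (comm_symm (hWS.trans ?_))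
  exact fun s hs => mem_centralizer_iff.mpr fun z hz => ((mem_zc.mp hz).2.1 s hs).symm

/-- **P3** -/
theorem p3 : StP3.{u} := by
  intro G _ _ hG S D hA V F hyp P Q hP hQ g g' q e hq hne hV
  have h1 := splus D hA hQ hq hne
  rw [conj_WP_congr e] at h1
  exact le_inf hV ((le_inf (conj_le_iff.2 (zl_le_WP hP)) (hV.trans hyp.V_le_X)).trans h1)

section sup

variable {G : Type u} [Group G] [Finite G] {S : Sylow 2 G} {M V F : Subgroup G} {n : ℕ}

omit [Finite G] in
/-- `B` centralises `F`. -/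
theorem Fr.B_cent_F : BB M (S : Subgroup G) V F n ≤ centralizer (F : Set G) :=
  Fr.B_le_W.trans Hyp.W_le_X

theorem Fr.sup_comm (h : Fr S M V F n) : BB M (S : Subgroup G) V F n ⊔ F ≤
    centralizer ((BB M (S : Subgroup G) V F n ⊔ F : Subgroup G) : Set G) := by
  have hFF : F ≤ centralizer (F : Set G) := h.hyp.F_le_V.trans h.hyp.V_le_X
  refine sup_le (comm_symm (sup_le h.B_comm (comm_symm Fr.B_cent_F)))
    (comm_symm (sup_le Fr.B_cent_F hFF))

theorem Fr.sup_sq (h : Fr S M V F n) : ∀ b ∈ BB M (S : Subgroup G) V F n ⊔ F, b ^ 2 = 1 := by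
  intro b hb
  have h1 : BB M (S : Subgroup G) V F n ≤ normalizer (F : Set G) :=
    Fr.B_cent_F.trans (centralizer_le_normalizer _)
  rw [← SetLike.mem_coe, Subgroup.coe_mul_of_left_le_normalizer_right _ _ h1, Set.mem_mul] at hb
  obtain ⟨a, ha, f, hf, rfl⟩ := hb
  have hcm : Commute a f := (mem_centralizer_iff.1 (Fr.B_cent_F ha) f hf).symm
  rw [hcm.mul_pow, h.B_sq a ha, h.hyp.sq f (h.hyp.F_le_V hf), one_mul]

omit [Finite G] in
theorem Fr.X_norm_sup : centralizer (F : Set G) ≤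
    normalizer ((BB M (S : Subgroup G) V F n ⊔ F : Subgroup G) : Set G) := by
  intro x hx
  have h1 : MulAut.conj x • (BB M (S : Subgroup G) V F n ⊔ F) = BB M (S : Subgroup G) V F n ⊔ F := by
    rw [Subgroup.smul_sup, Fr.conj_BB hx, NOne.Flat.conj_eq_of_cent hx]
  rw [mem_normalizer_iff]
  intro b
  constructor
  · intro hb
    rw [← h1, mem_conj]
    simpa [mul_assoc] using hb
  · intro hb
    rw [← h1, mem_conj] at hb
    simpa [mul_assoc] using hb

end sup

theorem sit_of {G : Type u} [Group G] [Finite G] (hG : Ctx G) {S : Sylow 2 G} (D : DataZ (S : Subgroup G))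
    (hA : ¬ CaseA (S : Subgroup G)) {V F P R : Subgroup G} {k : ℕ} {m : G} (hVS : V ≤ (S : Subgroup G))
    (h : Fr S (YS (S : Subgroup G)) V F (k + 1)) (hP : IsParS (S : Subgroup G) P)
    (hPE : ¬ zl (S : Subgroup G) P ≤ EE V F) (hR : IsParS (S : Subgroup G) R) (hm : m ∈ R)
    (hCm : Ch (YS (S : Subgroup G)) (S : Subgroup G) (WW V F) k m) :
    Sit S V F (BB (YS (S : Subgroup G)) (S : Subgroup G) V F (k + 1) ⊔ F) P R m := by
  have hmM : m ∈ YS (S : Subgroup G) := h.mem_M hCm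
  have hkk : k < k + 1 := Nat.lt_succ_self k
  have c1 : BB (YS (S : Subgroup G)) (S : Subgroup G) V F (k + 1) ⊔ F ≤ WW V F :=
    sup_le Fr.B_le_W (h.hyp.F_le_E.trans Hyp.E_le_W)
  have c2 : BB (YS (S : Subgroup G)) (S : Subgroup G) V F (k + 1) ⊔ F ≤ (S : Subgroup G) :=
    sup_le h.B_le_S (h.hyp.F_le_V.trans hVS)
  have c3 : WW V F ⊓ centralizer ((BB (YS (S : Subgroup G)) (S : Subgroup G) V F (k + 1) ⊔ F :
      Subgroup G) : Set G) ≤ (S : Subgroup G) := by
    refine le_trans (inf_le_inf_left _ (centralizer_le ?_)) h.cent_le_S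
    exact SetLike.coe_subset_coe.2 le_sup_left
  have c4 : MulAut.conj m • zl (S : Subgroup G) P ≤
      BB (YS (S : Subgroup G)) (S : Subgroup G) V F (k + 1) ⊔ F :=
    (Fr.le_BB' (h.mem_Gd_of_lt hkk hCm hP)).trans le_sup_left
  have c5 : zl (S : Subgroup G) R ≤ BB (YS (S : Subgroup G)) (S : Subgroup G) V F (k + 1) ⊔ F := by
    have h1 := Fr.le_BB' (h.mem_Gd_of_lt hkk hCm hR)
    rw [zl_conj_eq hm] at h1
    exact h1.trans le_sup_left
  refine ⟨hG, D, h.hyp, hVS, hP, hR, h.zl_le_V hP, hPE, le_sup_right, c1, Fr.X_norm_sup, h.sup_comm, h.sup_sq,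
    c2, c3, h.zl_le_V hR, c5, hm, h.line_le_V hmM hP, c4, ?_⟩
  intro g g' q Q hg e hQ hq
  exact spp D hA h.hyp hP (h.zl_le_V hP) hPE hg e hQ hq

/-- **P2** -/
theorem p2 : StP2.{u} := by
  intro G _ _ hG S hF D hA V F hf
  have hZV : zc (S : Subgroup G) ≤ V := hf.ZF.trans hf.flat.F_le_V
  obtain ⟨F', n, P, h, hn, hP, hPE⟩ := exists_fr_of hG hF D hA hf.flat hf.nV hZV hf.WS hf.nle
  obtain ⟨k, rfl⟩ : ∃ k, n = k + 1 := ⟨n - 1, by omega⟩
  obtain ⟨R, hR, m, hm, hCm⟩ := h.exists_adj rfl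
  exact ⟨V, F', _, P, R, m, sit_of hG D hA hf.VS h hP hPE hR hm hCm⟩

end Cfsg.Agent.Omega.NOThreeL.Low

end

section


/-!
# THEOREM R-LOW (#21762), part R1: the front (TCARD #22429)

`Data S` (radicals allowed), not (A), `V* = ⟨Z^M₀⟩` not FF and not in `O₂(C_G(Z))`.

* `splus` : **(S+)** `y ∩ F ≠ 1` for a point `y = Z^g` implies `W_y ∩ X ≤ O₂(X)` (not (A) for `C_G(d)`, `1 ≠ d ∈ y ∩ F`);
* `exists_fr_of`, `exists_frame` : the front of `Low.LA` (galleries of good lines) for `Data`;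
* `r1 : StR1`.
-/

set_option autoImplicit false

namespace Cfsg.Agent.Omega.NOThreeL.RLow

open Subgroup Cfsg
open Cfsg.Agent.ZN hiding mem_zc le_o2 le_normalizer_o2 zl_le
open Cfsg.Agent.Omega.MinPar Cfsg.Agent.Omega.Frame
open Cfsg.Agent.Omega.FrameNOFF
open Cfsg.Agent.Omega.NoFF.Basic (conj_conj mem_conj conj_le_iff conj_le_centralizer comm_symm comm_mono Gal)
open Cfsg.Agent.Omega.NOne.Flat (EE WW Hyp)
open Cfsg.Agent.Omega.NOThreeL.Basic (CaseA WP zl_le_WP)
open Cfsg.Agent.Omega.NOThreeL.Pair (conj_eq_of_mem)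
open Cfsg.Agent.Omega.NOThreeL.Star (YS)
open Cfsg.Agent.Omega.NOThreeL.Merge (MZ)
open Cfsg.Agent.Omega.NO3b (Wc.Root Wc.VL Wc.ML)
open Cfsg.Agent.Omega.NO3S (FFMod)
open Cfsg.Agent.Omega.Node.NO3L
open Cfsg.Agent.Omega.NOThreeL.Low (Ch Fr BB exists_gal zc_ne_bot exists_max_bad)
open Cfsg.Agent.ZN.ChoiceBase (isPGroup_cj cj)
open Cfsg.Agent.MinSimple.VModule (zc_le_zl zc_le zl_le_zc o2_isPGroup le_normalizer_o2
  mem_zc le_o2 o2_le le_centralizer_zc zc_sq)
open scoped Pointwise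

universe u

variable {G : Type u} [Group G] [Finite G]

omit [Finite G] in
/-- `C_G(z)` is long for `1 ≠ z ∈ Z`. -/
theorem isLong_cent {S : Sylow 2 G} {z : G} (hz : z ∈ zc (S : Subgroup G)) (hz1 : z ≠ 1) :
    IsLong (S : Subgroup G) (centralizer ({z} : Set G)) := by
  have hC : CZ (S : Subgroup G) ≤ centralizer ({z} : Set G) :=
    centralizer_le (Set.singleton_subset_iff.2 hz)
  exact ⟨isLoc_centralizer S (mem_zc.1 hz).2.2 hz1 ((le_CZ S).trans hC), hC⟩

/-- **(S+)**: a point `y = Z^g` which meets `F`: `W_y ∩ X ≤ O₂(X)`. -/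
theorem splus {S : Sylow 2 G} (D : Data (S : Subgroup G)) (hA : ¬ CaseA (S : Subgroup G)) {F : Subgroup G}
    {g : G} (hne : MulAut.conj g • zc (S : Subgroup G) ⊓ F ≠ ⊥) :
    MulAut.conj g • WP (S : Subgroup G) ⊓ centralizer (F : Set G) ≤ o2 (centralizer (F : Set G)) := by
  obtain ⟨⟨d, hd⟩, hd0⟩ := Subgroup.ne_bot_iff_exists_ne_one.1 hne
  have hd1 : d ≠ 1 := fun h0 => hd0 (Subtype.ext h0)
  obtain ⟨hdz, hdF⟩ := mem_inf.1 hd
  have hz : g⁻¹ * d * g ∈ zc (S : Subgroup G) := mem_conj.1 hdz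
  have hz1 : g⁻¹ * d * g ≠ 1 := fun h0 => hd1 (by
    have h1 := congrArg (fun t => g * t * g⁻¹) h0
    simpa [mul_assoc] using h1)
  have hL := isLong_cent hz hz1
  have h1 := conj_le_iff (g := g).2 (Basic.NotA.WP_le D hA hL)
  set Q : Subgroup G := MulAut.conj g • o2 (centralizer ({g⁻¹ * d * g} : Set G)) with hQ
  have hQ2 : IsPGroup 2 Q := isPGroup_cj g (o2_isPGroup _)
  have hX : ∀ x ∈ centralizer (F : Set G), g⁻¹ * x * g ∈ centralizer ({g⁻¹ * d * g} : Set G) := by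
    intro x hx
    rw [mem_centralizer_iff]
    rintro _ rfl
    have h2 := mem_centralizer_iff.1 hx d hdF
    have e1 : g⁻¹ * d * g * (g⁻¹ * x * g) = g⁻¹ * (d * x) * g := by group
    have e2 : g⁻¹ * x * g * (g⁻¹ * d * g) = g⁻¹ * (x * d) * g := by group
    rw [e1, e2, h2]
  refine (inf_le_inf_right _ h1).trans (le_o2 inf_le_right (hQ2.to_le inf_le_left) ?_)
  have key : ∀ x ∈ centralizer (F : Set G), ∀ b ∈ Q ⊓ centralizer (F : Set G),
      x * b * x⁻¹ ∈ Q ⊓ centralizer (F : Set G) := by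
    intro x hx b hb
    refine ⟨?_, (centralizer (F : Set G)).mul_mem ((centralizer (F : Set G)).mul_mem hx hb.2)
      ((centralizer (F : Set G)).inv_mem hx)⟩
    change x * b * x⁻¹ ∈ Q
    have h3 := mem_conj.1 (hQ ▸ hb.1 : b ∈ MulAut.conj g • o2 (centralizer ({g⁻¹ * d * g} : Set G)))
    rw [hQ, mem_conj]
    have h4 := (mem_normalizer_iff.1 (le_normalizer_o2 _ (hX x hx)) _).1 h3
    have e : g⁻¹ * x * g * (g⁻¹ * b * g) * (g⁻¹ * x * g)⁻¹ = g⁻¹ * (x * b * x⁻¹) * g := by group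
    rwa [e] at h4
  intro x hx
  rw [mem_normalizer_iff]
  intro b
  refine ⟨key x hx b, fun hb => ?_⟩
  have h2 := key x⁻¹ (inv_mem hx) _ hb
  have e : x⁻¹ * (x * b * x⁻¹) * x⁻¹⁻¹ = b := by group
  rwa [e] at h2

/-- A line on a point which meets `F` is good. -/
theorem good_of_ne {S : Sylow 2 G} (D : Data (S : Subgroup G)) (hA : ¬ CaseA (S : Subgroup G))
    {V F : Subgroup G} (hyp : Hyp V F) {P : Subgroup G} (hP : IsParS (S : Subgroup G) P)
    (hV : zl (S : Subgroup G) P ≤ V) {g : G} (hg : g ∈ P)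
    (hne : MulAut.conj g • zc (S : Subgroup G) ⊓ F ≠ ⊥) : zl (S : Subgroup G) P ≤ EE V F := by
  have h1 := conj_le_iff (g := g).2 (zl_le_WP hP)
  rw [zl_conj_eq hg] at h1
  exact le_inf hV ((le_inf h1 (hV.trans hyp.V_le_X)).trans (splus D hA hne))

/-- **The front exists**, for any frame `V`, `F` with `W_F ≤ S`, `V* ≰ E`. -/
theorem exists_fr_of {S : Sylow 2 G} (hG : Ctx G) (hF : Full (S : Subgroup G)) (D : Data (S : Subgroup G))
    (hA : ¬ CaseA (S : Subgroup G)) {V F : Subgroup G} (hyp : Hyp V F)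
    (hMV : YS (S : Subgroup G) ≤ normalizer (V : Set G)) (hZV : zc (S : Subgroup G) ≤ V)
    (hWS : WW V F ≤ (S : Subgroup G)) (hnE : ¬ zl (S : Subgroup G) (YS (S : Subgroup G)) ≤ EE V F) :
    ∃ (F' : Subgroup G) (n : ℕ) (P : Subgroup G), Fr S (YS (S : Subgroup G)) V F' (n + 1) ∧
      IsParS (S : Subgroup G) P ∧ ¬ zl (S : Subgroup G) P ≤ EE V F' := by
  have hPM : ∀ P, IsParS (S : Subgroup G) P → P ≤ YS (S : Subgroup G) := fun P hP => NOThreeL.Star.le_YS hP
  obtain ⟨P₀, hP₀⟩ := hG.exists_isParS hF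
  -- some chamber has a bad line
  have hex : ∃ n : ℕ, ∃ g, Ch (YS (S : Subgroup G)) (S : Subgroup G) (WW V F) n g ∧
      ∃ P, IsParS (S : Subgroup G) P ∧ ¬ MulAut.conj g • zl (S : Subgroup G) P ≤ EE V F := by
    by_contra hcon
    push Not at hcon
    apply hnE
    refine iSup_le fun y => ?_
    obtain ⟨k, hk⟩ := exists_gal y.2
    have h1 := hcon k y ⟨1, one_mem _, by rwa [map_one, one_smul], hk⟩ P₀ hP₀
    exact (conj_le_iff.2 (zc_le_zl (S : Subgroup G) P₀)).trans h1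
  classical
  obtain ⟨g, hg, P, hP, hPE⟩ := Nat.find_spec hex
  have hmin := fun j (hj : j < Nat.find hex) => Nat.find_min hex hj
  set n := Nat.find hex with hn
  have hgM := hg.mem hPM
  have hgV := hMV hgM
  have hgV' : g⁻¹ ∈ normalizer (V : Set G) := inv_mem hgV
  have eW : WW V (MulAut.conj g⁻¹ • F) = MulAut.conj g⁻¹ • WW V F := (NOne.Flat.WW_conj hgV').symm
  have eE : EE V (MulAut.conj g⁻¹ • F) = MulAut.conj g⁻¹ • EE V F := (NOne.Flat.EE_conj hgV').symm
  -- chambers for `F^{g⁻¹}`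
  have hCh : ∀ j x, Ch (YS (S : Subgroup G)) (S : Subgroup G) (WW V (MulAut.conj g⁻¹ • F)) j x →
      Ch (YS (S : Subgroup G)) (S : Subgroup G) (WW V F) j (g * x) := by
    rintro j x ⟨a, ha, haW, hax⟩
    refine ⟨g * a, mul_mem hgM ha, ?_, hax.mul_left g⟩
    rw [eW] at haW
    have h1 := conj_le_iff (g := g).2 haW
    rwa [conj_conj, mul_inv_cancel, map_one, one_smul, conj_conj] at h1
  have hCh' : Ch (YS (S : Subgroup G)) (S : Subgroup G) (WW V (MulAut.conj g⁻¹ • F)) n 1 := by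
    obtain ⟨a, ha, haW, hag⟩ := hg
    refine ⟨g⁻¹ * a, mul_mem (inv_mem hgM) ha, ?_, ?_⟩
    · rw [eW, ← conj_conj]
      exact conj_le_iff.2 haW
    · have := hag.mul_left g⁻¹
      rwa [inv_mul_cancel] at this
  have hbad : ¬ zl (S : Subgroup G) P ≤ EE V (MulAut.conj g⁻¹ • F) := by
    intro h1
    apply hPE
    rw [eE] at h1
    have h2 := conj_le_iff (g := g).2 h1
    rwa [conj_conj, mul_inv_cancel, map_one, one_smul] at h2
  have hyp' := hyp.conj hgV'
  have hfr : Fr S (YS (S : Subgroup G)) V (MulAut.conj g⁻¹ • F) n := by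
    refine ⟨hG.char2, D.noff, hyp', hPM, hMV, hZV, ?_, hCh'⟩
    intro j hj x hx Q hQ
    by_contra hcon
    refine hmin j hj ⟨g * x, hCh j x hx, Q, hQ, fun h1 => hcon ?_⟩
    rw [eE]
    have h2 := conj_le_iff (g := g⁻¹).2 h1
    rwa [conj_conj, inv_mul_cancel_left] at h2
  rcases hn0 : n with _ | k
  · -- `n = 0`: `W ≤ S`, so `Z ≤ F`
    exfalso
    rw [hn0] at hCh'
    have h1 := hCh'.zero_le
    rw [map_one, one_smul] at h1
    have h2 : zc (S : Subgroup G) ≤ MulAut.conj g⁻¹ • F := by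
      rw [← hyp'.cent_VW]
      refine le_inf hZV (comm_symm (h1.trans ?_))
      exact fun s hs => mem_centralizer_iff.mpr fun z hz => ((mem_zc.mp hz).2.1 s hs).symm
    refine hbad (good_of_ne D hA hyp' hP (hfr.zl_le_V hP) P.one_mem ?_)
    rw [map_one, one_smul, inf_eq_left.2 h2]
    exact zc_ne_bot (S := S) hG
  · rw [hn0] at hfr
    exact ⟨_, k, P, hfr, hP, hbad⟩

/-- The root of the w.c. frame for `M₀ = ⟨P*(S)⟩`. -/
theorem root_YS {S : Sylow 2 G} (hG : Ctx G) (hF : Full (S : Subgroup G)) (D : Data (S : Subgroup G))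
    (hff : ¬ FFMod (S : Subgroup G) (YS (S : Subgroup G))) : Wc.Root S (YS (S : Subgroup G)) :=
  MergeNF.root_of_isLoc hG.char2 (NOThreeL.Star.isLoc hG.char2 D.noff (NOThreeL.Star.S_le_YS hG hF)
    (hG.sylow_ne_bot S)) (NOThreeL.Star.cs_le_o2 hG.char2 (NOThreeL.Star.S_le_YS hG hF))
    (NO3b.Final.notFF_of (NOThreeL.Star.S_le_YS hG hF) hff)

/-- **The frame exists**: a maximal bad `F` of `V = VL S M₀` with `W_F ≤ S`, `V* ≰ E`. -/
theorem exists_frame {S : Sylow 2 G} (hG : Ctx G) (hF : Full (S : Subgroup G)) (D : Data (S : Subgroup G))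
    (hff : ¬ FFMod (S : Subgroup G) (YS (S : Subgroup G)))
    (hlow : ¬ zl (S : Subgroup G) (YS (S : Subgroup G)) ≤ o2 (CZ (S : Subgroup G))) :
    ∃ F : Subgroup G, Hyp (Wc.VL (S : Subgroup G) (YS (S : Subgroup G))) F ∧
      WW (Wc.VL (S : Subgroup G) (YS (S : Subgroup G))) F ≤ (S : Subgroup G) ∧
      ¬ zl (S : Subgroup G) (YS (S : Subgroup G)) ≤
        EE (Wc.VL (S : Subgroup G) (YS (S : Subgroup G))) F := by
  have root := root_YS hG hF D hff
  obtain ⟨F, hyp, hWS, hWL⟩ := exists_max_bad root hG.char2 (F₀ := zc (S : Subgroup G))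
    ⟨zc_ne_bot hG, NO3b.Wc.Root.zc_le_V, fun h1 => hlow (root.zl_le_V.trans h1)⟩
  exact ⟨F, hyp, hWS, fun h1 =>
    hWL (hyp.cent_of_le_EE (Spread.Plug.stmtOff G _ _ hyp) (root.not_offM hWS) h1).1⟩

/-- The situation, from the front. -/
theorem sit_of (hG : Ctx G) {S : Sylow 2 G} (D : Data (S : Subgroup G))
    (hA : ¬ CaseA (S : Subgroup G)) {V F P : Subgroup G} {k : ℕ} (hVS : V ≤ (S : Subgroup G))
    (h : Fr S (YS (S : Subgroup G)) V F (k + 1)) (hP : IsParS (S : Subgroup G) P)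
    (hPE : ¬ zl (S : Subgroup G) P ≤ EE V F) (hc : 2 < Nat.card (zc (S : Subgroup G))) :
    SitG {Q | IsParS (S : Subgroup G) Q} S V F (BB (YS (S : Subgroup G)) (S : Subgroup G) V F (k + 1) ⊔ F) P := by
  obtain ⟨R, hR, m, hm, hCm⟩ := h.exists_adj rfl
  have c1 : BB (YS (S : Subgroup G)) (S : Subgroup G) V F (k + 1) ⊔ F ≤ WW V F :=
    sup_le Fr.B_le_W (h.hyp.F_le_E.trans Hyp.E_le_W)
  have c2 : BB (YS (S : Subgroup G)) (S : Subgroup G) V F (k + 1) ⊔ F ≤ (S : Subgroup G) :=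
    sup_le h.B_le_S (h.hyp.F_le_V.trans hVS)
  have c3 : WW V F ⊓ centralizer ((BB (YS (S : Subgroup G)) (S : Subgroup G) V F (k + 1) ⊔ F :
      Subgroup G) : Set G) ≤ (S : Subgroup G) := by
    refine le_trans (inf_le_inf_left _ (centralizer_le ?_)) h.cent_le_S
    exact SetLike.coe_subset_coe.2 le_sup_left
  have hgood : ∀ Q, IsParS (S : Subgroup G) Q → zl (S : Subgroup G) Q ≤ EE V F →
      zl (S : Subgroup G) Q ≤ BB (YS (S : Subgroup G)) (S : Subgroup G) V F (k + 1) ⊔ F := by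
    intro Q hQ hQE
    have h1 := Fr.mem_Gd (M := YS (S : Subgroup G)) (n := k + 1) le_rfl h.one hQ
      (by rwa [map_one, one_smul])
    rw [map_one, one_smul] at h1
    exact (Fr.le_BB' h1).trans le_sup_left
  have hRE : zl (S : Subgroup G) R ≤ EE V F := by
    have h1 := h.least k (Nat.lt_succ_self k) m hCm R hR
    rwa [zl_conj_eq hm] at h1
  have hpt : ∀ Q ∈ {Q | IsParS (S : Subgroup G) Q}, ¬ zl (S : Subgroup G) Q ≤ EE V F → ∀ g ∈ Q,
      MulAut.conj g • zc (S : Subgroup G) ⊓ F = ⊥ := by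
    intro Q hQ hQE g hg
    by_contra hne
    exact hQE (good_of_ne D hA h.hyp hQ (h.zl_le_V hQ) hg hne)
  exact ⟨⟨hG, D, hA, h.hyp, hVS, hP, h.zl_le_V hP, hPE, le_sup_right, c1,
    Fr.X_norm_sup, h.sup_comm, h.sup_sq, c2, c3, (zc_le_zl _ R).trans (hgood R hR hRE), hpt P hP hPE, hc⟩,
    fun Q hQ => h.zl_le_V hQ, hgood, hpt⟩

/-- box R: `|Z| ≥ 4` -/
theorem card_zc {S : Sylow 2 G} {P : Subgroup G} (hP : IsParS (S : Subgroup G) P)
    (hne : zc (S : Subgroup G) ⊓ centralizer (P : Set G) ≠ ⊥) : 2 < Nat.card (zc (S : Subgroup G)) := by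
  have h1 : 1 < Nat.card (zc (S : Subgroup G) ⊓ centralizer (P : Set G) : Subgroup G) :=
    (one_lt_card_iff_ne_bot _).2 hne
  have h2 : zc (S : Subgroup G) ⊓ centralizer (P : Set G) < zc (S : Subgroup G) := by
    refine lt_of_le_of_ne inf_le_left fun h0 => hP.not_zc ?_
    have h3 : zc (S : Subgroup G) ≤ centralizer (P : Set G) := inf_eq_left.1 h0
    exact (comm_symm h3).trans (centralizer_le_normalizer _)
  have h3 : Nat.card (zc (S : Subgroup G) ⊓ centralizer (P : Set G) : Subgroup G) <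
      Nat.card (zc (S : Subgroup G)) := by
    by_contra hcon
    exact h2.ne (eq_of_le_of_card_ge h2.le (not_lt.1 hcon))
  omega

/-- **R1** -/
theorem r1 : StR1.{u} := by
  intro G _ _ hG S hF D hA hR hff hlow
  obtain ⟨P₀, hP₀, hne⟩ := hR
  obtain ⟨F, hyp, hWS, hnE⟩ := exists_frame hG hF D hff hlow
  have root := root_YS hG hF D hff
  obtain ⟨F', n, P, h, hP, hPE⟩ := exists_fr_of hG hF D hA hyp
    (root.L_le.trans (NO3b.Wc.ML_le_norm_V _ _)) NO3b.Wc.Root.zc_le_V hWS hnE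
  exact ⟨_, F', _, P, sit_of hG D hA root.V_le_S h hP hPE (card_zc hP₀ hne)⟩

end Cfsg.Agent.Omega.NOThreeL.RLow

end
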